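/-
Generalities for the theorem on products of two nilpotent subgroups: conjugates, cores of
solvable subgroups.
-/
import Cfsg.Agent.Coprime.Fitting
import Cfsg.Agent.Coprime.Hall
import Cfsg.Agent.Components.Cores
import Cfsg.Agent.SolvStruct.NilpotentHall
import Cfsg.Agent.Transfer.Basic

set_option autoImplicit false
set_option linter.style.haveILetI false
set_option linter.unusedSectionVars false

namespace Cfsg.Lib.SolvStruct.KW

open Subgroup Cfsg.Lib.Transfer

universe u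

variable {G : Type u} [Group G]

/-- The conjugate `g H g⁻¹`. -/
abbrev cj (g : G) (H : Subgroup G) : Subgroup G := H.map (MulAut.conj g).toMonoidHom

lemma cj_mono (g : G) {H K : Subgroup G} (h : H ≤ K) : cj g H ≤ cj g K := map_mono h

lemma cj_cj (a b : G) (H : Subgroup G) : cj a (cj b H) = cj (a * b) H := map_conj_map_conj H a b

lemma cj_one (H : Subgroup G) : cj (1 : G) H = H := map_conj_one H

lemma cj_of_mem {g : G} {H : Subgroup G} (h : g ∈ normalizer (H : Set G)) : cj g H = H :=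
  map_conj_eq_self_iff.2 h

lemma mem_cj {g x : G} {H : Subgroup G} : x ∈ cj g H ↔ g⁻¹ * x * g ∈ H := mem_map_conj

lemma conj_mem_cj (g : G) {x : G} {H : Subgroup G} (h : x ∈ H) : g * x * g⁻¹ ∈ cj g H :=
  mem_cj.2 (by simpa [mul_assoc] using h)

lemma cj_le_of_mem {K H : Subgroup G} {g : G} (hg : g ∈ K) (h : H ≤ K) : cj g H ≤ K := by
  rintro _ ⟨x, hx, rfl⟩
  exact K.mul_mem (K.mul_mem hg (h hx)) (K.inv_mem hg)

lemma mem_normalizer_cj {g n : G} {H : Subgroup G} (h : n ∈ normalizer (H : Set G)) :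
    g * n * g⁻¹ ∈ normalizer (cj g H : Set G) := by
  rw [← map_conj_eq_self_iff]
  show cj (g * n * g⁻¹) (cj g H) = cj g H
  rw [cj_cj, inv_mul_cancel_right, ← cj_cj, cj_of_mem h]

lemma cj_eq_bot {g : G} {H : Subgroup G} : cj g H = ⊥ ↔ H = ⊥ :=
  map_eq_bot_iff_of_injective _ (MulAut.conj g).injective

lemma card_cj (g : G) (H : Subgroup G) : Nat.card ↥(cj g H) = Nat.card H := card_map_conj H g

lemma cj_ne_top [Finite G] {g : G} {H : Subgroup G} (h : H ≠ ⊤) : cj g H ≠ ⊤ := fun e =>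
  h (eq_top_of_card_eq _ (by rw [← card_cj g H, e, card_top]))

variable [Finite G]

lemma le_of_forall_ppow {K T : Subgroup G}
    (h : ∀ p : ℕ, p.Prime → ∀ x ∈ K, (∃ i, orderOf x = p ^ i) → x ∈ T) : K ≤ T := by
  rw [← relIndex_eq_one]
  by_contra hne
  obtain ⟨p, hp, hdvd⟩ := Nat.exists_prime_and_dvd hne
  haveI := Fact.mk hp
  obtain ⟨P⟩ : Nonempty (Sylow p K) := inferInstance
  have hle : (P : Subgroup K) ≤ T.subgroupOf K := fun x hx => by
    obtain ⟨i, hi⟩ := IsPGroup.iff_orderOf.1 P.2 ⟨x, hx⟩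
    rw [Subgroup.orderOf_mk] at hi
    exact h p hp x x.2 ⟨i, by rw [← hi, Subgroup.orderOf_coe]⟩
  exact P.not_dvd_index (hdvd.trans (index_dvd_of_le hle))

lemma relIndex_cj (g : G) (H M : Subgroup G) : (cj g H).relIndex (cj g M) = H.relIndex M :=
  relIndex_map_map_of_injective _ _ (MulAut.conj g).injective

/-- Sylow's theorem inside `M`. -/
lemma exists_conj_le_of_relIndex {p : ℕ} [hp : Fact p.Prime] {M H R : Subgroup G} (hH : H ≤ M)
    (hR : R ≤ M) (hRp : IsPGroup p R) (hidx : ¬ p ∣ H.relIndex M) : ∃ m ∈ M, R ≤ cj m H := by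
  obtain ⟨Q⟩ : Nonempty (Sylow p H) := inferInstance
  set Q0 : Subgroup G := (Q : Subgroup H).map H.subtype with hQ0
  have hQH : Q0 ≤ H := map_subtype_le _
  have hQ0p : IsPGroup p Q0 := Q.2.map _
  have hidx2 : ¬ p ∣ (Q0.subgroupOf M).index := by
    show ¬ p ∣ Q0.relIndex M
    rw [← relIndex_mul_relIndex Q0 H M hQH hH]
    refine hp.out.not_dvd_mul ?_ hidx
    rw [relIndex, hQ0, subgroupOf, comap_map_eq_self_of_injective H.subtype_injective]
    exact Q.not_dvd_index
  set P : Sylow p M := (hQ0p.comap_subtype).toSylow hidx2 with hP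
  obtain ⟨P', hP'⟩ := (hRp.comap_subtype (K := M)).exists_le_sylow
  obtain ⟨m, hm⟩ := MulAction.exists_smul_eq M P P'
  refine ⟨m, m.2, fun x hx => ?_⟩
  have h1 : (⟨x, hR hx⟩ : M) ∈ ((m • P : Sylow p M) : Subgroup M) := hm.symm ▸ hP' hx
  rw [sylow_smul_coe, mem_map_conj] at h1
  exact mem_cj.2 (hQH h1)

/-! ### the cores of a subgroup -/

/-- `O_p(K)` inside `G`. -/
def pc (p : ℕ) (K : Subgroup G) : Subgroup G := (Cfsg.pCore p K).map K.subtype

/-- The Fitting subgroup of `K` inside `G`. -/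
def fit (K : Subgroup G) : Subgroup G := (Cfsg.fittingSubgroup K).map K.subtype

lemma pc_le (p : ℕ) (K : Subgroup G) : pc p K ≤ K := map_subtype_le _

lemma isPGroup_pc (p : ℕ) (K : Subgroup G) : IsPGroup p (pc p K) :=
  (Cfsg.Lib.Components.isPGroup_pCore (G := K) p).map _

lemma le_normalizer_pc (p : ℕ) (K : Subgroup G) : K ≤ normalizer (pc p K : Set G) := by
  intro k hk
  apply mem_normalizer_fintype
  rintro _ ⟨x, hx, rfl⟩
  haveI : (Cfsg.pCore p K).Normal := Subgroup.sSup_normal _ (fun _ h => h.1)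
  exact ⟨_, Normal.conj_mem inferInstance x hx ⟨k, hk⟩, rfl⟩

lemma conj_mem_pc {p : ℕ} {K : Subgroup G} {k x : G} (hk : k ∈ K) (hx : x ∈ pc p K) :
    k * x * k⁻¹ ∈ pc p K :=
  (mem_normalizer_iff.1 (le_normalizer_pc p K hk) x).1 hx

/-- A normal `p`-subgroup lies in every subgroup of index prime to `p`. -/
lemma pc_le_of_relIndex {p : ℕ} [Fact p.Prime] {K H : Subgroup G} (hH : H ≤ K)
    (hidx : ¬ p ∣ H.relIndex K) : pc p K ≤ H := by
  obtain ⟨m, hm, hle⟩ := exists_conj_le_of_relIndex hH (pc_le p K) (isPGroup_pc p K) hidx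
  intro x hx
  have h1 := mem_cj.1 (hle (conj_mem_pc hm hx))
  simpa [mul_assoc] using h1

lemma fit_eq_iSup (K : Subgroup G) : fit K = ⨆ q : Nat.Primes, pc q.1 K := by
  rw [fit, Cfsg.Lib.Components.fitting_eq_iSup_pCore, Subgroup.map_iSup]
  rfl

lemma pc_le_fit {p : ℕ} (hp : p.Prime) (K : Subgroup G) : pc p K ≤ fit K :=
  fit_eq_iSup K ▸ le_iSup (fun q : Nat.Primes => pc q.1 K) ⟨p, hp⟩

lemma fit_le (K : Subgroup G) : fit K ≤ K := map_subtype_le _

lemma fit_le_of_forall {K T : Subgroup G} (h : ∀ p : ℕ, p.Prime → pc p K ≤ T) : fit K ≤ T :=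
  (fit_eq_iSup K).le.trans (iSup_le fun q => h q.1 q.2)

lemma conj_mem_fit {K : Subgroup G} {k x : G} (hk : k ∈ K) (hx : x ∈ fit K) :
    k * x * k⁻¹ ∈ fit K := by
  obtain ⟨x, hx', rfl⟩ := hx
  haveI : (Cfsg.fittingSubgroup K).Normal := Subgroup.sSup_normal _ (fun _ h => h.1)
  exact ⟨_, Normal.conj_mem inferInstance x hx' ⟨k, hk⟩, rfl⟩

lemma commute_fit {K : Subgroup G} {x : G}
    (h : ∀ p : ℕ, p.Prime → ∀ u ∈ pc p K, u * x = x * u) : ∀ u ∈ fit K, u * x = x * u := by
  intro u hu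
  have hle : fit K ≤ centralizer ({x} : Set G) :=
    fit_le_of_forall fun p hp v hv => mem_centralizer_singleton_iff.2 (h p hp v hv)
  exact mem_centralizer_singleton_iff.1 (hle hu)

lemma mem_fit {K : Subgroup G} (hK : Group.IsSolvable K) {x : G} (hx : x ∈ K)
    (h : ∀ p : ℕ, p.Prime → ∀ u ∈ pc p K, u * x = x * u) : x ∈ fit K := by
  haveI := hK
  refine ⟨⟨x, hx⟩, Cfsg.Lib.Coprime.centralizer_fitting_le (G := K) ?_, rfl⟩
  exact mem_centralizer_iff.2 fun u hu =>
    Subtype.ext (commute_fit h u (mem_map_of_mem K.subtype hu))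

/-- An element centralizing all cores commutes with its conjugates. -/
lemma commute_conj_of_central {K : Subgroup G} (hK : Group.IsSolvable K) {x : G} (hx : x ∈ K)
    (h : ∀ p : ℕ, p.Prime → ∀ u ∈ pc p K, u * x = x * u) {k : G} (hk : k ∈ K) :
    Commute x (k * x * k⁻¹) :=
  (commute_fit h _ (conj_mem_fit hk (mem_fit hK hx h))).symm

lemma exists_pc_ne_bot {K : Subgroup G} (hK : Group.IsSolvable K) (hne : K ≠ ⊥) :
    ∃ p : ℕ, p.Prime ∧ pc p K ≠ ⊥ := by
  haveI := hK
  haveI : Nontrivial K := (nontrivial_iff_ne_bot _).2 hne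
  by_contra h
  push Not at h
  refine Cfsg.Lib.Coprime.fitting_ne_bot (G := K)
    ((map_eq_bot_iff_of_injective _ K.subtype_injective).1 ?_)
  exact le_bot_iff.1 (fit_le_of_forall fun p hp => (h p hp).le)

/-- The elements of prime power order of the Fitting subgroup lie in the cores. -/
lemma mem_pc_of_mem_fit {K : Subgroup G} {p : ℕ} [Fact p.Prime] {x : G} (hx : x ∈ fit K)
    (hord : ∃ i, orderOf x = p ^ i) : x ∈ pc p K := by
  obtain ⟨y, hy, rfl⟩ := hx
  obtain ⟨i, hi⟩ := hord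
  set F := Cfsg.fittingSubgroup K with hF
  haveI : Group.IsNilpotent F := Cfsg.Lib.Components.isNilpotent_fitting
  haveI hFn : F.Normal := Subgroup.sSup_normal _ (fun _ h => h.1)
  have ho : orderOf (⟨y, hy⟩ : F) = p ^ i := by
    rw [Subgroup.orderOf_mk]
    exact (orderOf_injective K.subtype K.subtype_injective y).symm.trans hi
  obtain ⟨S, hS⟩ := (IsPGroup.of_card (p := p)
    ((Nat.card_zpowers (⟨y, hy⟩ : F)).trans ho)).exists_le_sylow
  have hSn : (S : Subgroup F).Normal := by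
    have h := (Group.isNilpotent_of_finite_tfae (G := F)).out 0 3
    exact h.1 inferInstance p ‹_› S
  haveI : (S : Subgroup F).Characteristic := S.characteristic_of_normal hSn
  haveI : ((S : Subgroup F).map F.subtype).Normal := ConjAct.normal_of_characteristic_of_normal
  have hle : (S : Subgroup F).map F.subtype ≤ Cfsg.pCore p K :=
    Cfsg.Lib.Components.le_pCore (S.2.map _)
  exact mem_map_of_mem K.subtype (hle (mem_map_of_mem F.subtype (hS (mem_zpowers _))))

lemma not_dvd_orderOf_of_pc_eq_bot {K : Subgroup G} {p : ℕ} [hp : Fact p.Prime]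
    (h : pc p K = ⊥) {x : G} (hx : x ∈ fit K) : ¬ p ∣ orderOf x := by
  intro hd
  set y := x ^ (orderOf x / p) with hy
  have ho : orderOf y = p := by
    rw [hy, orderOf_pow_of_dvd (Nat.div_pos (Nat.le_of_dvd (orderOf_pos x) hd) hp.out.pos).ne'
      (Nat.div_dvd_of_dvd hd), Nat.div_div_self hd (orderOf_pos x).ne']
  have h1 : y ∈ pc p K := mem_pc_of_mem_fit ((fit K).pow_mem hx (orderOf x / p))
    ⟨1, by rw [pow_one]; exact ho⟩
  rw [h, mem_bot] at h1
  rw [h1, orderOf_one] at ho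
  exact hp.out.ne_one ho.symm

end Cfsg.Lib.SolvStruct.KW
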