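/-
The minimal configuration for Wielandt's theorem on products of nilpotent subgroups of coprime
orders, and the maximal subgroup containing one of the factors.
-/
import Cfsg.Agent.SolvStruct.KegelWielandt.Basic
import Cfsg.Agent.SolvStruct.PrimePowerIndex
import Cfsg.Agent.Coprime.SolvableBasics

set_option autoImplicit false
set_option linter.style.haveILetI false
set_option linter.unusedSectionVars false

namespace Cfsg.Lib.SolvStruct.KW

open Subgroup

universe u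

variable {G : Type u} [Group G] [Finite G]

/-- A minimal counterexample. -/
structure Hyp (A B : Subgroup G) : Prop where
  simple : IsSimpleGroup G
  nilA : Group.IsNilpotent A
  nilB : Group.IsNilpotent B
  cop : (Nat.card A).Coprime (Nat.card B)
  card_eq : Nat.card A * Nat.card B = Nat.card G
  ns : ¬ Group.IsSolvable G
  ih : ∀ K : Subgroup G, K ≠ ⊤ → ∀ A' B' : Subgroup G, A' ≤ K → B' ≤ K →
    Group.IsNilpotent A' → Group.IsNilpotent B' → (Nat.card A').Coprime (Nat.card B') →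
    Nat.card A' * Nat.card B' = Nat.card K → Group.IsSolvable K

/-- The primes of `K` divide `|A|`. -/
def PiA (A K : Subgroup G) : Prop := ∀ p : ℕ, p.Prime → p ∣ Nat.card K → p ∣ Nat.card A

/-- The centre of `A` inside `G`. -/
def ZC (A : Subgroup G) : Subgroup G := A ⊓ centralizer (A : Set G)

lemma ZC_le (A : Subgroup G) : ZC A ≤ A := inf_le_left

lemma commute_ZC {A : Subgroup G} {z a : G} (hz : z ∈ ZC A) (ha : a ∈ A) : a * z = z * a :=
  mem_centralizer_iff.1 hz.2 a ha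

lemma le_normalizer_of_le_ZC {A Z : Subgroup G} (hZ : Z ≤ ZC A) :
    A ≤ normalizer (Z : Set G) := by
  refine fun a ha => mem_normalizer_fintype fun x hx => ?_
  show a * x * a⁻¹ ∈ Z
  rwa [commute_ZC (hZ hx) ha, mul_inv_cancel_right]

variable {A B : Subgroup G}

lemma Hyp.symm (h : Hyp A B) : Hyp B A where
  simple := h.simple
  nilA := h.nilB
  nilB := h.nilA
  cop := h.cop.symm
  card_eq := by rw [mul_comm]; exact h.card_eq
  ns := h.ns
  ih := h.ih

namespace Hyp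

lemma inf_eq_bot (h : Hyp A B) : A ⊓ B = ⊥ := inf_eq_bot_of_coprime h.cop

lemma mul (h : Hyp A B) (g : G) : ∃ a ∈ A, ∃ b ∈ B, g = a * b := by
  have hinj : Function.Injective (fun x : A × B => (x.1 : G) * x.2) :=
    mul_injective_of_disjoint (disjoint_iff.2 h.inf_eq_bot)
  have hbij := (Nat.bijective_iff_injective_and_card _).2
    ⟨hinj, by rw [Nat.card_prod, h.card_eq]⟩
  obtain ⟨⟨a, b⟩, hab⟩ := hbij.2 g
  exact ⟨a, a.2, b, b.2, hab.symm⟩

lemma eq_of_mul_eq (h : Hyp A B) {a a' b b' : G} (ha : a ∈ A) (ha' : a' ∈ A) (hb : b ∈ B)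
    (hb' : b' ∈ B) (e : a * b = a' * b') : a = a' ∧ b = b' := by
  have h1 := mul_injective_of_disjoint (disjoint_iff.2 h.inf_eq_bot)
    (a₁ := ((⟨a, ha⟩, ⟨b, hb⟩) : A × B)) (a₂ := ((⟨a', ha'⟩, ⟨b', hb'⟩) : A × B)) e
  exact ⟨congrArg (fun x : A × B => (x.1 : G)) h1, congrArg (fun x : A × B => (x.2 : G)) h1⟩

/-- Every pair of conjugates of `A` and `B` is conjugate to `(A, B)`. -/
lemma pairs (h : Hyp A B) (x y : G) : ∃ g : G,
    (∀ Z : Subgroup G, A ≤ normalizer (Z : Set G) → cj g Z = cj x Z) ∧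
      ∀ Q : Subgroup G, B ≤ normalizer (Q : Set G) → cj g Q = cj y Q := by
  obtain ⟨a, ha, b, hb, e⟩ := h.mul (x⁻¹ * y)
  refine ⟨x * a, fun Z hZ => ?_, fun Q hQ => ?_⟩
  · rw [← cj_cj, cj_of_mem (hZ ha)]
  · have : x * a = y * b⁻¹ := by
      rw [show y = x * (a * b) by rw [← e]; group]; group
    rw [this, ← cj_cj, cj_of_mem (hQ (B.inv_mem hb))]

lemma A_ne_top (h : Hyp A B) : A ≠ ⊤ := fun e => h.ns <| by
  haveI := h.nilA
  haveI : Group.IsNilpotent (⊤ : Subgroup G) := e ▸ h.nilA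
  haveI : Group.IsNilpotent G := Group.nilpotent_of_mulEquiv Subgroup.topEquiv
  infer_instance

lemma index_A (h : Hyp A B) : A.index = Nat.card B := by
  apply Nat.eq_of_mul_eq_mul_left (Nat.card_pos (α := A))
  rw [card_mul_index, h.card_eq]

lemma hallA (h : Hyp A B) : (Nat.card A).Coprime A.index := h.index_A ▸ h.cop

lemma B_ne_bot (h : Hyp A B) : B ≠ ⊥ := fun e => h.A_ne_top (eq_top_of_card_eq _ (by
  rw [← h.card_eq, e, card_bot, mul_one]))

lemma A_ne_bot (h : Hyp A B) : A ≠ ⊥ := h.symm.B_ne_bot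

lemma dvd_or (h : Hyp A B) {p : ℕ} (hp : p.Prime) {K : Subgroup G} (hd : p ∣ Nat.card K) :
    p ∣ Nat.card A ∨ p ∣ Nat.card B :=
  hp.dvd_mul.1 (h.card_eq ▸ hd.trans (card_subgroup_dvd_card K))

lemma not_dvd_B (h : Hyp A B) {p : ℕ} (hp : p.Prime) (hA : p ∣ Nat.card A) : ¬ p ∣ Nat.card B :=
  fun hB => hp.ne_one (Nat.eq_one_of_dvd_coprimes h.cop hA hB)

lemma dom (h : Hyp A B) {K : Subgroup G} (hK : PiA A K) : ∃ x : G, K ≤ cj x A :=
  Cfsg.Lib.SolvStruct.exists_conj_ge h.nilA h.hallA K hK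

lemma piA_of_le (_h : Hyp A B) {K : Subgroup G} {x : G} (hK : K ≤ cj x A) : PiA A K :=
  fun _ _ hd => card_cj x A ▸ hd.trans (card_dvd_of_le hK)

lemma nilpotent_of_piA (h : Hyp A B) {K : Subgroup G} (hK : PiA A K) : Group.IsNilpotent K :=
  Cfsg.Lib.SolvStruct.isNilpotent_of_primes_dvd_hall h.nilA h.hallA K hK

lemma piA_of_pgroup (_h : Hyp A B) {p : ℕ} [hp : Fact p.Prime] {K : Subgroup G} (hK : IsPGroup p K)
    (hpA : p ∣ Nat.card A) : PiA A K := by
  intro r hr hd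
  obtain ⟨n, hn⟩ := IsPGroup.iff_card.1 hK
  rw [hn] at hd
  exact ((Nat.prime_dvd_prime_iff_eq hr hp.out).1 (hr.dvd_of_dvd_pow hd)) ▸ hpA

lemma ne_top_of_piA (h : Hyp A B) {K : Subgroup G} (hK : PiA A K) : K ≠ ⊤ := fun e => by
  obtain ⟨x, hx⟩ := h.dom hK
  exact cj_ne_top h.A_ne_top (top_unique (e ▸ hx))

lemma normalizer_ne_top (h : Hyp A B) {H : Subgroup G} (h1 : H ≠ ⊥) (h2 : H ≠ ⊤) :
    normalizer (H : Set G) ≠ ⊤ := fun e => by
  haveI := h.simple
  haveI : H.Normal := normalizer_eq_top_iff.1 e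
  rcases (inferInstance : H.Normal).eq_bot_or_eq_top with h' | h'
  exacts [h1 h', h2 h']

/-- Commuting elements of coprime prime power orders in a conjugate of `A`. -/
lemma commute_cj (h : Hyp A B) {x : G} {p q : ℕ} (hp : p.Prime) (hq : q.Prime) (hpq : p ≠ q)
    {u v : G} (hu : u ∈ cj x A) (hv : v ∈ cj x A) (hu' : ∃ i, orderOf u = p ^ i)
    (hv' : ∃ i, orderOf v = q ^ i) : Commute u v := by
  haveI := Fact.mk hp
  haveI := Fact.mk hq
  haveI : Group.IsNilpotent ↥(cj x A) := h.nilpotent_of_piA (h.piA_of_le le_rfl)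
  have hc := Cfsg.Lib.SolvStruct.commute_of_coprime_of_nilpotent (K := ↥(cj x A)) hpq
    (x := ⟨u, hu⟩) (y := ⟨v, hv⟩) (by simpa [Subgroup.orderOf_mk] using hu')
    (by simpa [Subgroup.orderOf_mk] using hv')
  exact congrArg Subtype.val hc.eq

lemma centralizer_ne_top (h : Hyp A B) {x : G} (hx : x ≠ 1) :
    centralizer ({x} : Set G) ≠ ⊤ := fun e => by
  haveI := h.simple
  have hxc : x ∈ center G := mem_center_iff.2 fun g =>
    mem_centralizer_singleton_iff.1 (e ▸ mem_top g : g ∈ centralizer ({x} : Set G))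
  rcases (inferInstance : (center G).Normal).eq_bot_or_eq_top with h' | h'
  · exact hx (mem_bot.1 (h' ▸ hxc))
  · exact h.ns (Group.isSolvable_of_comm fun a b =>
      mem_center_iff.1 (h' ▸ mem_top b : b ∈ center G) a)

/-- No proper subgroup contains `A` and a nontrivial normal subgroup of `B`. -/
lemma no_A_Q (h : Hyp A B) {K : Subgroup G} (hK : K ≠ ⊤) {x y : G} (hA : cj x A ≤ K)
    {Q : Subgroup G} (hQ : B ≤ normalizer (Q : Set G)) (hQne : Q ≠ ⊥) (hQK : cj y Q ≤ K) :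
    False := by
  obtain ⟨g, hgA, hgQ⟩ := h.pairs x y
  set K' := cj g⁻¹ K with hK'
  have hAK' : A ≤ K' := by
    have := cj_mono g⁻¹ ((hgA A le_normalizer).trans_le hA)
    rwa [cj_cj, inv_mul_cancel, cj_one] at this
  have hQK' : Q ≤ K' := by
    have := cj_mono g⁻¹ ((hgQ Q hQ).trans_le hQK)
    rwa [cj_cj, inv_mul_cancel, cj_one] at this
  haveI := h.simple
  have hle : normalClosure (Q : Set G) ≤ K' := by
    refine (closure_le _).2 fun v hv => ?_
    obtain ⟨q, hq, hcon⟩ := Group.mem_conjugatesOfSet_iff.1 hv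
    obtain ⟨c, rfl⟩ := isConj_iff.1 hcon
    obtain ⟨a, ha, b, hb, rfl⟩ := h.mul c
    have h1 : b * q * b⁻¹ ∈ Q := (mem_normalizer_iff.1 (hQ hb) q).1 hq
    rw [show a * b * q * (a * b)⁻¹ = a * (b * q * b⁻¹) * a⁻¹ by group]
    exact K'.mul_mem (K'.mul_mem (hAK' ha) (hQK' h1)) (K'.inv_mem (hAK' ha))
  rcases (normalClosure_normal : (normalClosure (Q : Set G)).Normal).eq_bot_or_eq_top with h' | h'
  · exact hQne (le_bot_iff.1 (h' ▸ le_normalClosure))
  · exact cj_ne_top (g := g⁻¹) hK (top_unique (h' ▸ hle))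

/-- Two primes divide `|A|`. -/
lemma exists_prime_ne (h : Hyp A B) (p : ℕ) : ∃ q : ℕ, q.Prime ∧ q ∣ Nat.card A ∧ q ≠ p := by
  by_contra hc
  push Not at hc
  obtain ⟨r, hr, hrA⟩ := Nat.exists_prime_and_dvd
    (show Nat.card A ≠ 1 from fun e => h.A_ne_bot (Subgroup.card_eq_one.1 e))
  have hrp := hc r hr hrA
  subst hrp
  have hk := Nat.eq_prime_pow_of_unique_prime_dvd (Nat.card_pos (α := A)).ne'
    (fun {d} hd hdA => hc d hd hdA)
  haveI := h.nilB
  haveI : Nontrivial B := (nontrivial_iff_ne_bot _).2 h.B_ne_bot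
  obtain ⟨z, hz⟩ : ∃ z : center B, z ≠ 1 := by
    obtain ⟨w, hw⟩ := ne_bot_iff_exists_ne_one.1
      (Cfsg.Lib.Coprime.inf_center_ne_bot (⊤ : Subgroup B) top_ne_bot)
    exact ⟨⟨w.1, w.2.2⟩, fun e => hw (Subtype.ext (congrArg Subtype.val e :))⟩
  haveI := h.simple
  refine h.ns (Cfsg.Lib.SolvStruct.isSolvable_of_class_prime_pow hr (z := ((z : B) : G))
    (fun e => hz (Subtype.ext (Subtype.ext e))) (H := B) (fun b hb => ?_)
    (j := (Nat.card A).primeFactorsList.length) ?_)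
  · exact mem_centralizer_singleton_iff.2
      (congrArg Subtype.val (mem_center_iff.1 z.2 ⟨b, hb⟩) :)
  · rw [h.symm.index_A, ← hk]

lemma exists_center_order (h : Hyp A B) {s : ℕ} (hs : s.Prime) (hsA : s ∣ Nat.card A) :
    ∃ z ∈ ZC A, orderOf z = s := by
  haveI := Fact.mk hs
  haveI := h.nilA
  obtain ⟨P⟩ : Nonempty (Sylow s A) := inferInstance
  haveI : (P : Subgroup A).Normal := by
    have h1 := (Group.isNilpotent_of_finite_tfae (G := A)).out 0 3
    exact h1.1 inferInstance s ‹_› P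
  have hPne : (P : Subgroup A) ≠ ⊥ := P.ne_bot_of_dvd_card hsA
  obtain ⟨w, hw⟩ := (ne_bot_iff_exists_ne_one.1
    (Cfsg.Lib.Coprime.inf_center_ne_bot (P : Subgroup A) hPne))
  obtain ⟨k, hk⟩ := IsPGroup.iff_orderOf.1 P.2 ⟨w.1, w.2.1⟩
  rw [Subgroup.orderOf_mk] at hk
  rcases k with _ | k
  · exact absurd (Subtype.ext (orderOf_eq_one_iff.1 (by simpa using hk))) hw
  set z : A := (w : A) ^ (s ^ k) with hz
  have ho : orderOf z = s := by
    rw [hz, orderOf_pow_of_dvd (pow_pos hs.pos k).ne' (hk ▸ pow_dvd_pow s k.le_succ), hk,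
      pow_succ, Nat.mul_div_cancel_left _ (pow_pos hs.pos k)]
  have hzc : z ∈ center A := (center A).pow_mem w.2.2 _
  refine ⟨z, ⟨z.2, mem_centralizer_iff.2 fun a ha => ?_⟩, by rw [Subgroup.orderOf_coe]; exact ho⟩
  exact congrArg Subtype.val (mem_center_iff.1 hzc ⟨a, ha⟩)

/-- The Hall property of the intersection with `K`. -/
lemma exists_hallA_of_solvable (_h : Hyp A B) {K L : Subgroup G} (hLK : L ≤ K)
    (hL : Group.IsSolvable L) (hidx : ∀ r : ℕ, r.Prime → r ∣ Nat.card A → ¬ r ∣ L.relIndex K) :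
    ∃ A' : Subgroup G, A' ≤ K ∧ PiA A A' ∧
      ∀ r : ℕ, r.Prime → r ∣ Nat.card A → ¬ r ∣ A'.relIndex K := by
  haveI := hL
  obtain ⟨H, hH⟩ := Cfsg.Lib.Coprime.exists_piHall (G := L) {p | p ∣ Nat.card A}
  refine ⟨H.map L.subtype, (map_subtype_le H).trans hLK, fun p hp hd => ?_, fun r hr hrA => ?_⟩
  · rw [card_map_of_injective L.subtype_injective] at hd
    exact hH.1 p hp hd
  · rw [← relIndex_mul_relIndex _ L K (map_subtype_le H) hLK]
    refine hr.not_dvd_mul ?_ (hidx r hr hrA)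
    rw [relIndex, subgroupOf, comap_map_eq_self_of_injective L.subtype_injective]
    exact hH.2 r hr hrA

lemma solvable_of_halls (h : Hyp A B) {K A' B' : Subgroup G} (hK : K ≠ ⊤) (hA' : A' ≤ K)
    (hB' : B' ≤ K) (hpA : PiA A A') (hpB : PiA B B')
    (hiA : ∀ r : ℕ, r.Prime → r ∣ Nat.card A → ¬ r ∣ A'.relIndex K)
    (hiB : ∀ r : ℕ, r.Prime → r ∣ Nat.card B → ¬ r ∣ B'.relIndex K) : Group.IsSolvable K := by
  have hcop : (Nat.card A').Coprime (Nat.card B') :=
    Cfsg.Lib.Coprime.coprime_of_forall_prime fun p hp h1 h2 =>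
      h.not_dvd_B hp (hpA p hp h1) (hpB p hp h2)
  refine h.ih K hK A' B' hA' hB' (h.nilpotent_of_piA hpA) (h.symm.nilpotent_of_piA hpB) hcop ?_
  have e1 : Nat.card A' * A'.relIndex K = Nat.card K := by
    have := relIndex_mul_relIndex (⊥ : Subgroup G) A' K bot_le hA'
    rwa [relIndex_bot_left, relIndex_bot_left] at this
  have e2 : Nat.card B' * B'.relIndex K = Nat.card K := by
    have := relIndex_mul_relIndex (⊥ : Subgroup G) B' K bot_le hB'
    rwa [relIndex_bot_left, relIndex_bot_left] at this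
  obtain ⟨c, hc⟩ := hcop.mul_dvd_of_dvd_of_dvd (card_dvd_of_le hA') (card_dvd_of_le hB')
  suffices c = 1 by rw [hc, this, mul_one]
  by_contra hne
  obtain ⟨r, hr, hrc⟩ := Nat.exists_prime_and_dvd hne
  have hA'i : A'.relIndex K = Nat.card B' * c :=
    Nat.eq_of_mul_eq_mul_left (Nat.card_pos (α := A')) (by rw [e1, hc]; ring)
  have hB'i : B'.relIndex K = Nat.card A' * c :=
    Nat.eq_of_mul_eq_mul_left (Nat.card_pos (α := B')) (by rw [e2, hc]; ring)
  rcases h.dvd_or hr (K := K) (hrc.trans (Dvd.intro_left _ hc.symm)) with hA | hB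
  · exact hiA r hr hA (hA'i ▸ dvd_mul_of_dvd_right hrc _)
  · exact hiB r hr hB (hB'i ▸ dvd_mul_of_dvd_right hrc _)

/-- A subgroup with compatible factorisation is solvable. -/
lemma solvable_of_factor (h : Hyp A B) {K : Subgroup G} (hK : K ≠ ⊤)
    (hf : ∀ a ∈ A, ∀ b ∈ B, a * b ∈ K → a ∈ K) : Group.IsSolvable K := by
  let m : ↥(A ⊓ K) × ↥(B ⊓ K) → K := fun x => ⟨(x.1 : G) * x.2, K.mul_mem x.1.2.2 x.2.2.2⟩
  have hm : Function.Bijective m := by
    refine ⟨fun x y e => ?_, fun k => ?_⟩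
    · obtain ⟨e1, e2⟩ := h.eq_of_mul_eq x.1.2.1 y.1.2.1 x.2.2.1 y.2.2.1 (congrArg Subtype.val e)
      exact Prod.ext (Subtype.ext e1) (Subtype.ext e2)
    · obtain ⟨a, ha, b, hb, e⟩ := h.mul k
      have haK : a ∈ K := hf a ha b hb (e ▸ k.2)
      have hbK : b ∈ K := by
        have hk : a⁻¹ * (a * b) ∈ K := K.mul_mem (K.inv_mem haK) (e ▸ k.2)
        simpa using hk
      exact ⟨(⟨a, ha, haK⟩, ⟨b, hb, hbK⟩), Subtype.ext e.symm⟩
  refine h.ih K hK (A ⊓ K) (B ⊓ K) inf_le_right inf_le_right ?_ ?_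
    ((h.cop.coprime_dvd_left (card_dvd_of_le inf_le_left)).coprime_dvd_right
      (card_dvd_of_le inf_le_left)) (by rw [← Nat.card_prod]; exact Nat.card_eq_of_bijective m hm)
  · exact h.nilpotent_of_piA fun p _ hd => hd.trans (card_dvd_of_le inf_le_left)
  · exact h.symm.nilpotent_of_piA fun p _ hd => hd.trans (card_dvd_of_le inf_le_left)

lemma solvable_of_A_le (h : Hyp A B) {K : Subgroup G} (hK : K ≠ ⊤) (hA : A ≤ K) :
    Group.IsSolvable K := h.solvable_of_factor hK fun _ ha _ _ _ => hA ha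

end Hyp

end Cfsg.Lib.SolvStruct.KW
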