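/-
In a minimal configuration the factor `A` lies in a unique maximal subgroup, and no nontrivial
normal subgroup of `B` normalizes a nontrivial subgroup whose primes divide `|A|`.
-/
import Cfsg.Agent.SolvStruct.KegelWielandt.Setup

set_option autoImplicit false
set_option linter.style.haveILetI false
set_option linter.unusedSectionVars false

namespace Cfsg.Lib.SolvStruct.KW

open Subgroup
open scoped commutatorElement

universe u

variable {G : Type u} [Group G] [Finite G] {A B : Subgroup G}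

/-- `M` is maximal and contains `A`. -/
def IsMax (A M : Subgroup G) : Prop := IsCoatom M ∧ A ≤ M

namespace Hyp

lemma exists_isMax (h : Hyp A B) : ∃ M, IsMax A M :=
  (eq_top_or_exists_le_coatom A).resolve_left h.A_ne_top

lemma solvable_max (h : Hyp A B) {M : Subgroup G} (hM : IsMax A M) : Group.IsSolvable M :=
  h.solvable_of_A_le hM.1.1 hM.2

lemma normalizer_eq_max (h : Hyp A B) {M R : Subgroup G} (hM : IsMax A M) (hne : R ≠ ⊥)
    (hRM : R ≤ M) (hn : M ≤ normalizer (R : Set G)) : normalizer (R : Set G) = M := by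
  rcases (IsCoatom.le_iff hM.1).1 hn with e | e
  · exact absurd e (h.normalizer_ne_top hne fun e => hM.1.1 (top_unique (e ▸ hRM)))
  · exact e

lemma zpowers_normalized (_h : Hyp A B) {z : G} (hz : z ∈ ZC B) :
    B ≤ normalizer (zpowers z : Set G) :=
  le_normalizer_of_le_ZC (zpowers_le.2 hz)

lemma ZC_ne_bot (h : Hyp A B) : ZC A ≠ ⊥ := fun e => by
  obtain ⟨s, hs, hsA, -⟩ := h.exists_prime_ne 0
  obtain ⟨z, hz, ho⟩ := h.exists_center_order hs hsA
  rw [e, mem_bot] at hz
  rw [hz, orderOf_one] at ho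
  exact hs.ne_one ho.symm

lemma pc_eq_bot_max (h : Hyp A B) {M : Subgroup G} (hM : IsMax A M) {q : ℕ} (hq : q.Prime)
    (hqA : ¬ q ∣ Nat.card A) : pc q M = ⊥ := by
  haveI := Fact.mk hq
  by_contra hne
  have hpi : PiA B (pc q M) := fun r hr hd => by
    obtain ⟨n, hn⟩ := IsPGroup.iff_card.1 (isPGroup_pc q M)
    rw [hn] at hd
    have e : r = q := (Nat.prime_dvd_prime_iff_eq hr hq).1 (hr.dvd_of_dvd_pow hd)
    subst e
    exact (h.dvd_or hq (K := pc r M) (hn ▸ hd)).resolve_left hqA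
  obtain ⟨k, hk⟩ := h.symm.dom hpi
  have hle : cj k (ZC B) ≤ M := by
    rw [← h.normalizer_eq_max hM hne (pc_le q M) (le_normalizer_pc q M)]
    refine le_trans ?_ (centralizer_le_normalizer _)
    rintro _ ⟨z, hz, rfl⟩
    refine mem_centralizer_iff.2 fun u hu => ?_
    obtain ⟨v, hv, rfl⟩ := hk hu
    rw [← map_mul, ← map_mul, commute_ZC hz hv]
  exact h.no_A_Q hM.1.1 (x := 1) (by rw [cj_one]; exact hM.2) (le_normalizer_of_le_ZC le_rfl)
    h.symm.ZC_ne_bot hle

lemma pc_le_A (h : Hyp A B) {M : Subgroup G} (hM : IsMax A M) {p : ℕ} (hp : p.Prime) :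
    pc p M ≤ A := by
  haveI := Fact.mk hp
  by_cases hpA : p ∣ Nat.card A
  · refine pc_le_of_relIndex hM.2 fun hd => h.not_dvd_B hp hpA ?_
    rw [← h.index_A]
    exact hd.trans ((relIndex_mul_index hM.2) ▸ dvd_mul_right _ _)
  · rw [h.pc_eq_bot_max hM hp hpA]; exact bot_le

lemma fit_le_A (h : Hyp A B) {M : Subgroup G} (hM : IsMax A M) : fit M ≤ A :=
  fit_le_of_forall fun _ hp => h.pc_le_A hM hp

/-- An `r'`-element of `M` centralizing `O_r(M)` centralizes the `r`-elements of `A`. -/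
lemma commute_of_centralizes (h : Hyp A B) {M : Subgroup G} (hM : IsMax A M) {r : ℕ}
    (hr : r.Prime) {c : G} (hcM : c ∈ M) (hcW : ∀ u ∈ pc r M, u * c = c * u)
    (hco : (orderOf c).Coprime r) {a : G} (ha : a ∈ A) (hao : ∃ i, orderOf a = r ^ i) :
    a * c = c * a := by
  haveI := Fact.mk hr
  have haM := hM.2 ha
  set d := c * a * c⁻¹ * a⁻¹ with hd
  have hdM : d ∈ M := M.mul_mem (M.mul_mem (M.mul_mem hcM haM) (M.inv_mem hcM)) (M.inv_mem haM)
  have hdc : ∀ p : ℕ, p.Prime → ∀ u ∈ pc p M, u * d = d * u := by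
    intro p hp u hu
    by_cases hpr : p = r
    · subst hpr
      have h1 : ∀ v ∈ pc p M, Commute v c := hcW
      have h2 : ∀ v ∈ pc p M, Commute v (a * c⁻¹ * a⁻¹) := fun v hv => by
        have := (h1 _ (conj_mem_pc (M.inv_mem haM) hv)).inv_right
        show v * (a * c⁻¹ * a⁻¹) = a * c⁻¹ * a⁻¹ * v
        calc v * (a * c⁻¹ * a⁻¹) = a * ((a⁻¹ * v * a⁻¹⁻¹) * c⁻¹) * a⁻¹ := by group
          _ = a * (c⁻¹ * (a⁻¹ * v * a⁻¹⁻¹)) * a⁻¹ := by rw [this.eq]
          _ = _ := by group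
      have := (h1 u hu).mul_right (h2 u hu)
      rw [hd, show c * a * c⁻¹ * a⁻¹ = c * (a * c⁻¹ * a⁻¹) by group]
      exact this
    · have h1 : ∀ v ∈ pc p M, Commute v a := fun v hv => by
        have hvA := h.pc_le_A hM hp hv
        haveI := Fact.mk hp
        obtain ⟨i, hi⟩ := IsPGroup.iff_orderOf.1 (isPGroup_pc p M) ⟨v, hv⟩
        rw [Subgroup.orderOf_mk] at hi
        exact h.commute_cj (x := 1) hp hr hpr (by rwa [cj_one]) (by rwa [cj_one]) ⟨i, hi⟩ hao
      have h2 : Commute u (c * a * c⁻¹) := by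
        have := h1 _ (conj_mem_pc (M.inv_mem hcM) hu)
        show u * (c * a * c⁻¹) = c * a * c⁻¹ * u
        calc u * (c * a * c⁻¹) = c * ((c⁻¹ * u * c⁻¹⁻¹) * a) * c⁻¹ := by group
          _ = c * (a * (c⁻¹ * u * c⁻¹⁻¹)) * c⁻¹ := by rw [this.eq]
          _ = _ := by group
      exact h2.mul_right (h1 u hu).inv_right
  have hdF : d ∈ fit M := mem_fit (h.solvable_max hM) hdM hdc
  have hdA : d ∈ A := h.fit_le_A hM hdF
  -- `c a c⁻¹` is an `r`-element of `A`, hence in the normal Sylow subgroup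
  obtain ⟨i, hi⟩ := hao
  haveI := h.nilA
  have hdr : ∃ j, orderOf d = r ^ j := by
    have hcac : c * a * c⁻¹ = d * a := by rw [hd]; group
    have hmem : c * a * c⁻¹ ∈ A := hcac ▸ A.mul_mem hdA ha
    obtain ⟨P, hP⟩ := (IsPGroup.of_card (p := r) ((Nat.card_zpowers (⟨a, ha⟩ : A)).trans
      (by rw [Subgroup.orderOf_mk]; exact hi))).exists_le_sylow
    have hPn : (P : Subgroup A).Normal := by
      have h1 := (Group.isNilpotent_of_finite_tfae (G := A)).out 0 3
      exact h1.1 inferInstance r ‹_› P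
    obtain ⟨P', hP'⟩ := (IsPGroup.of_card (p := r)
      ((Nat.card_zpowers (⟨c * a * c⁻¹, hmem⟩ : A)).trans (by
        rw [Subgroup.orderOf_mk]
        exact (orderOf_injective (MulAut.conj c).toMonoidHom (MulAut.conj c).injective a).trans hi))
      ).exists_le_sylow
    haveI := P.unique_of_normal hPn
    rw [Subsingleton.elim P' P] at hP'
    have h3 : (⟨d, hdA⟩ : A) ∈ (P : Subgroup A) := by
      have h4 : (⟨c * a * c⁻¹, hmem⟩ : A) * (⟨a, ha⟩ : A)⁻¹ ∈ (P : Subgroup A) :=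
        (P : Subgroup A).mul_mem (hP' (mem_zpowers _))
          ((P : Subgroup A).inv_mem (hP (mem_zpowers _)))
      convert h4 using 1
      exact Subtype.ext hd
    obtain ⟨j, hj⟩ := IsPGroup.iff_orderOf.1 P.2 ⟨_, h3⟩
    rw [Subgroup.orderOf_mk, Subgroup.orderOf_mk] at hj
    exact ⟨j, hj⟩
  have hdW : Commute d c := hcW _ (mem_pc_of_mem_fit hdF hdr)
  have hpow : ∀ n : ℕ, c ^ n * a * (c ^ n)⁻¹ = d ^ n * a := by
    intro n
    induction n with
    | zero => simp
    | succ n ih =>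
      calc c ^ (n + 1) * a * (c ^ (n + 1))⁻¹ = c * (c ^ n * a * (c ^ n)⁻¹) * c⁻¹ := by
            rw [pow_succ']; group
        _ = (c * d ^ n) * a * c⁻¹ := by rw [ih]; group
        _ = (d ^ n * c) * a * c⁻¹ := by rw [(hdW.pow_left n).eq]
        _ = d ^ n * (d * a) := by rw [show d * a = c * a * c⁻¹ by rw [hd]; group]; group
        _ = _ := by rw [pow_succ, mul_assoc (d ^ n) d a]
  have h1 : d ^ orderOf c = 1 := by
    have := hpow (orderOf c)
    rw [pow_orderOf_eq_one] at this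
    simpa using this.symm
  have h2 : d = 1 := by
    obtain ⟨j, hj⟩ := hdr
    refine orderOf_eq_one_iff.1 (Nat.eq_one_of_dvd_coprimes (Nat.Coprime.pow_right j hco)
      (orderOf_dvd_of_pow_eq_one h1) (hj ▸ dvd_rfl))
  rw [hd, mul_inv_eq_one, mul_inv_eq_iff_eq_mul] at h2
  exact h2.symm

/-- The maximal subgroup containing `A` is unique. -/
theorem max_unique (h : Hyp A B) {M₁ M₂ : Subgroup G} (h1 : IsMax A M₁) (h2 : IsMax A M₂) :
    M₁ = M₂ := by
  obtain ⟨r, hr, hrA, -⟩ := h.exists_prime_ne 0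
  haveI := Fact.mk hr
  obtain ⟨s, hs, hsA, hsr⟩ := h.exists_prime_ne r
  haveI := Fact.mk hs
  set Q := closure {c : G | (∀ a ∈ A, (∃ i, orderOf a = r ^ i) → a * c = c * a) ∧
    (orderOf c).Coprime r} with hQ
  suffices ∀ M, IsMax A M → normalizer (Q : Set G) = M from (this M₁ h1).symm.trans (this M₂ h2)
  intro M hM
  set W := pc r M with hW
  have hWne : W ≠ ⊥ := by
    intro hb
    obtain ⟨z, hz, ho⟩ := h.exists_center_order hr hrA
    have hzf : z ∈ fit M := mem_fit (h.solvable_max hM) (hM.2 hz.1) fun p hp u hu =>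
      commute_ZC hz (h.pc_le_A hM hp hu)
    have h3 : z ∈ W := mem_pc_of_mem_fit hzf ⟨1, by rw [pow_one]; exact ho⟩
    rw [hb, mem_bot] at h3
    rw [h3, orderOf_one] at ho
    exact hr.ne_one ho.symm
  have hN := h.normalizer_eq_max hM hWne (pc_le r M) (le_normalizer_pc r M)
  have hcM : ∀ c : G, (∀ u ∈ W, u * c = c * u) → c ∈ M := fun c hc =>
    hN ▸ centralizer_le_normalizer _ (mem_centralizer_iff.2 hc)
  have hgen : ∀ c, ((∀ a ∈ A, (∃ i, orderOf a = r ^ i) → a * c = c * a) ∧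
      (orderOf c).Coprime r) → ∀ u ∈ W, u * c = c * u := fun c hc u hu => by
    obtain ⟨i, hi⟩ := IsPGroup.iff_orderOf.1 (isPGroup_pc r M) ⟨u, hu⟩
    rw [Subgroup.orderOf_mk] at hi
    exact hc.1 u (h.pc_le_A hM hr hu) ⟨i, hi⟩
  have hQM : Q ≤ M := (closure_le _).2 fun c hc => hcM c (hgen c hc)
  have hQne : Q ≠ ⊥ := fun e => by
    obtain ⟨z, hz, ho⟩ := h.exists_center_order hs hsA
    have h3 : z ∈ Q := subset_closure ⟨fun a ha _ => commute_ZC hz ha,
      ho ▸ (Nat.coprime_primes hs hr).2 hsr⟩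
    rw [e, mem_bot] at h3
    rw [h3, orderOf_one] at ho
    exact hs.ne_one ho.symm
  refine h.normalizer_eq_max hM hQne hQM fun m hm => mem_normalizer_fintype fun x hx => ?_
  induction hx using closure_induction with
  | mem c hc =>
    have hord : orderOf (m * c * m⁻¹) = orderOf c :=
      orderOf_injective (MulAut.conj m).toMonoidHom (MulAut.conj m).injective c
    refine subset_closure ⟨fun a ha hao => ?_, hord.symm ▸ hc.2⟩
    refine h.commute_of_centralizes hM hr (M.mul_mem (M.mul_mem hm (hcM c (hgen c hc)))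
      (M.inv_mem hm)) (fun u hu => ?_) (hord.symm ▸ hc.2) ha hao
    have := hgen c hc _ (conj_mem_pc (M.inv_mem hm) hu)
    calc u * (m * c * m⁻¹) = m * ((m⁻¹ * u * m⁻¹⁻¹) * c) * m⁻¹ := by group
      _ = m * (c * (m⁻¹ * u * m⁻¹⁻¹)) * m⁻¹ := by rw [this]
      _ = _ := by group
  | one => simp
  | mul x y _ _ hx hy =>
    show m * (x * y) * m⁻¹ ∈ Q
    rw [show m * (x * y) * m⁻¹ = (m * x * m⁻¹) * (m * y * m⁻¹) by group]
    exact Q.mul_mem hx hy
  | inv x _ hx =>
    show m * x⁻¹ * m⁻¹ ∈ Q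
    rw [show m * x⁻¹ * m⁻¹ = (m * x * m⁻¹)⁻¹ by group]
    exact Q.inv_mem hx

lemma le_max (h : Hyp A B) {M K : Subgroup G} (hM : IsMax A M) (hK : K ≠ ⊤) (hA : A ≤ K) :
    K ≤ M := by
  obtain ⟨M', hM', hKM'⟩ := (eq_top_or_exists_le_coatom K).resolve_left hK
  exact h.max_unique ⟨hM', hA.trans hKM'⟩ hM ▸ hKM'

/-- If a Sylow subgroup of a conjugate of `A` lies in `M` then so does the conjugator. -/
lemma mem_max_of_sylow (h : Hyp A B) {M : Subgroup G} (hM : IsMax A M) {t : ℕ} (ht : t.Prime)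
    (htA : t ∣ Nat.card A) {g : G}
    (hg : ∀ a ∈ A, (∃ i, orderOf a = t ^ i) → g * a * g⁻¹ ∈ M) : g ∈ M := by
  haveI := Fact.mk ht
  haveI := h.nilA
  obtain ⟨P⟩ : Nonempty (Sylow t A) := inferInstance
  have hPn : (P : Subgroup A).Normal := by
    have h1 := (Group.isNilpotent_of_finite_tfae (G := A)).out 0 3
    exact h1.1 inferInstance t ‹_› P
  set S := (P : Subgroup A).map A.subtype with hS
  have hSA : S ≤ A := map_subtype_le _
  have hAS : A ≤ normalizer (S : Set G) := fun a ha => mem_normalizer_fintype fun x hx => by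
    obtain ⟨y, hy, rfl⟩ := hx
    exact ⟨_, hPn.conj_mem y hy ⟨a, ha⟩, rfl⟩
  have hSp : IsPGroup t S := P.2.map _
  have hSne : S ≠ ⊥ := fun e =>
    P.ne_bot_of_dvd_card htA ((map_eq_bot_iff_of_injective _ A.subtype_injective).1 e)
  have hgS : cj g S ≤ M := by
    rintro _ ⟨x, hx, rfl⟩
    obtain ⟨i, hi⟩ := IsPGroup.iff_orderOf.1 hSp ⟨x, hx⟩
    rw [Subgroup.orderOf_mk] at hi
    exact hg x (hSA hx) ⟨i, hi⟩
  have hidx : ¬ t ∣ S.relIndex M := by
    rw [← relIndex_mul_relIndex S A M hSA hM.2]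
    refine ht.not_dvd_mul ?_ fun hd => h.not_dvd_B ht htA ?_
    · rw [relIndex, hS, subgroupOf, comap_map_eq_self_of_injective A.subtype_injective]
      exact P.not_dvd_index
    · rw [← h.index_A]
      exact hd.trans ((relIndex_mul_index hM.2) ▸ dvd_mul_right _ _)
  obtain ⟨m, hm, hle⟩ := exists_conj_le_of_relIndex (hSA.trans hM.2) hgS (hSp.map _) hidx
  have heq : cj g S = cj m S := eq_of_le_of_card_ge hle (by rw [card_cj, card_cj])
  have hN : normalizer (S : Set G) ≤ M :=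
    h.le_max hM (h.normalizer_ne_top hSne fun e => h.A_ne_top (top_unique (e ▸ hSA))) hAS
  have : m⁻¹ * g ∈ M := hN (Cfsg.Lib.Transfer.map_conj_eq_self_iff.1 (by
    show cj (m⁻¹ * g) S = S
    rw [← cj_cj, heq, cj_cj, inv_mul_cancel, cj_one]))
  have := M.mul_mem hm this
  simpa using this

/-- Only conjugates of `A` by elements of `M` contain central elements of `A`. -/
lemma mem_max_of_center (h : Hyp A B) {M : Subgroup G} (hM : IsMax A M) {s : ℕ} (hs : s.Prime)
    {z : G} (hz : z ∈ ZC A) (ho : orderOf z = s) {g : G} (hzg : z ∈ cj g A) : g ∈ M := by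
  obtain ⟨t, ht, htA, hts⟩ := h.exists_prime_ne s
  have hz1 : z ≠ 1 := fun e => hs.ne_one (by rw [← ho, e, orderOf_one])
  have hC : centralizer ({z} : Set G) ≤ M := h.le_max hM (h.centralizer_ne_top hz1)
    fun a ha => mem_centralizer_singleton_iff.2 (commute_ZC hz ha)
  refine h.mem_max_of_sylow hM ht htA fun a ha hao => hC (mem_centralizer_singleton_iff.2 ?_)
  obtain ⟨i, hi⟩ := hao
  exact (h.commute_cj ht hs hts (conj_mem_cj g ha) hzg
    ⟨i, (orderOf_injective (MulAut.conj g).toMonoidHom (MulAut.conj g).injective a).trans hi⟩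
    ⟨1, by rw [pow_one]; exact ho⟩).eq

lemma mem_max_of_commute_conj (h : Hyp A B) {M : Subgroup G} (hM : IsMax A M) {s : ℕ}
    (hs : s.Prime) (hsA : s ∣ Nat.card A) {z : G} (hz : z ∈ ZC A) (ho : orderOf z = s) {g : G}
    (hc : Commute z (g * z * g⁻¹)) : g ∈ M := by
  haveI := Fact.mk hs
  have hz1 : z ≠ 1 := fun e => hs.ne_one (by rw [← ho, e, orderOf_one])
  have hmem : g * z * g⁻¹ ∈ M := h.le_max hM (h.centralizer_ne_top hz1)
    (fun a ha => mem_centralizer_singleton_iff.2 (commute_ZC hz ha))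
    (mem_centralizer_singleton_iff.2 hc.eq.symm)
  obtain ⟨m, hm, hle⟩ := exists_conj_le_of_relIndex (p := s) hM.2
    (zpowers_le.2 hmem) (IsPGroup.of_card (n := 1) (by
      rw [Nat.card_zpowers, pow_one]
      exact (orderOf_injective (MulAut.conj g).toMonoidHom (MulAut.conj g).injective z).trans ho))
    (fun hd => h.not_dvd_B hs hsA (by
      rw [← h.index_A]; exact hd.trans ((relIndex_mul_index hM.2) ▸ dvd_mul_right _ _)))
  have h1 : z ∈ cj (g⁻¹ * m) A := by
    rw [← cj_cj, mem_cj, inv_inv]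
    exact hle (mem_zpowers _)
  have h2 := h.mem_max_of_center hM hs hz ho h1
  have h3 := M.mul_mem hm (M.inv_mem h2)
  simpa using h3

end Hyp

end Cfsg.Lib.SolvStruct.KW
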