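/-
In a minimal configuration no proper subgroup contains conjugates of both centres, and no
nontrivial normal subgroup of one factor normalizes a nontrivial subgroup of the other type.
-/
import Cfsg.Agent.SolvStruct.KegelWielandt.Maximal

set_option autoImplicit false
set_option linter.style.haveILetI false
set_option linter.unusedSectionVars false

namespace Cfsg.Lib.SolvStruct.KW

open Subgroup

universe u

variable {G : Type u} [Group G] [Finite G] {A B : Subgroup G}

namespace Hyp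

lemma hallA_of_ZC_le (h : Hyp A B) {K : Subgroup G} (hZ : ZC A ≤ K) :
    ∃ A' : Subgroup G, A' ≤ K ∧ PiA A A' ∧
      ∀ r : ℕ, r.Prime → r ∣ Nat.card A → ¬ r ∣ A'.relIndex K := by
  obtain ⟨M, hM⟩ := h.exists_isMax
  haveI := h.solvable_max hM
  refine h.exists_hallA_of_solvable (L := K ⊓ M) inf_le_left
    (Group.isSolvable_of_isSolvable_injective (inclusion_injective (inf_le_right : K ⊓ M ≤ M)))
    fun r hr hrA hdvd => ?_
  haveI := Fact.mk hr
  obtain ⟨z, hz, ho⟩ := h.exists_center_order hr hrA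
  have hzK : zpowers z ≤ K := zpowers_le.2 (hZ hz)
  have hp : IsPGroup r (zpowers z) := IsPGroup.of_card (n := 1) (by
    rw [Nat.card_zpowers, pow_one, ho])
  obtain ⟨S, hS⟩ := (hp.comap_subtype (K := K)).exists_le_sylow
  set R : Subgroup G := (S : Subgroup K).map K.subtype with hR
  have hzR : z ∈ R := ⟨⟨z, hZ hz⟩, hS (mem_zpowers z), rfl⟩
  obtain ⟨g, hg⟩ := h.dom (h.piA_of_pgroup (S.2.map K.subtype) hrA)
  have hgM := h.mem_max_of_center hM hr hz ho (hg hzR)
  have hRM : R ≤ K ⊓ M := le_inf (map_subtype_le _) (hg.trans (cj_le_of_mem hgM hM.2))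
  have h1 : (K ⊓ M).relIndex K ∣ R.relIndex K := by
    rw [← relIndex_mul_relIndex R (K ⊓ M) K hRM inf_le_left]
    exact dvd_mul_left _ _
  refine S.not_dvd_index ((hdvd.trans h1).trans (dvd_of_eq ?_))
  rw [relIndex, hR, subgroupOf, comap_map_eq_self_of_injective K.subtype_injective]

lemma solvable_of_centres (h : Hyp A B) {K : Subgroup G} (hK : K ≠ ⊤) (hA : ZC A ≤ K)
    (hB : ZC B ≤ K) : Group.IsSolvable K := by
  obtain ⟨A', hA', hpA, hiA⟩ := h.hallA_of_ZC_le hA
  obtain ⟨B', hB', hpB, hiB⟩ := h.symm.hallA_of_ZC_le hB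
  exact h.solvable_of_halls hK hA' hB' hpA hpB hiA hiB

/-- The position of the centre of `A` relative to a maximal subgroup with some core at a prime
of `A`. -/
lemma hall_center (h : Hyp A B) {H : Subgroup G} (hH : IsCoatom H) (hsol : Group.IsSolvable H)
    {p : ℕ} (hp : p.Prime) (hpA : p ∣ Nat.card A) (hne : pc p H ≠ ⊥) :
    ∃ g : G, (∀ s : ℕ, s.Prime → s ∣ Nat.card A → pc s H ≤ cj g A) ∧ cj g (ZC A) ≤ H := by
  haveI := hsol
  obtain ⟨A', hA', hpi, hidx⟩ :=
    h.exists_hallA_of_solvable (le_refl H) hsol (fun r hr _ hd => hr.not_dvd_one (relIndex_self H ▸ hd))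
  obtain ⟨g, hg⟩ := h.dom hpi
  have hcores : ∀ s : ℕ, s.Prime → s ∣ Nat.card A → pc s H ≤ cj g A := fun s hs hsA => by
    haveI := Fact.mk hs
    exact (pc_le_of_relIndex hA' (hidx s hs hsA)).trans hg
  refine ⟨g, hcores, ?_⟩
  have hR : pc p H ≠ ⊤ := fun e => hH.1 (top_unique (e ▸ pc_le p H))
  have hN : normalizer (pc p H : Set G) = H :=
    ((IsCoatom.le_iff hH).1 (le_normalizer_pc p H)).resolve_left (h.normalizer_ne_top hne hR)
  rw [← hN]
  refine le_trans ?_ (centralizer_le_normalizer _)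
  rintro _ ⟨z, hz, rfl⟩
  refine mem_centralizer_iff.2 fun u hu => ?_
  obtain ⟨v, hv, rfl⟩ := hcores p hp hpA hu
  rw [← map_mul, ← map_mul, commute_ZC hz hv]

lemma no_cores_one_side (h : Hyp A B) {H : Subgroup G} (hH : IsCoatom H)
    (hsol : Group.IsSolvable H) {y : G} (hY : cj y (ZC B) ≤ H)
    (hbot : ∀ q : ℕ, q.Prime → q ∣ Nat.card B → pc q H = ⊥) : False := by
  have hHne : H ≠ ⊥ := fun e => h.symm.ZC_ne_bot (cj_eq_bot.1 (le_bot_iff.1 (e ▸ hY)))
  obtain ⟨p, hp, hne⟩ := exists_pc_ne_bot hsol hHne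
  haveI := Fact.mk hp
  have hpA : p ∣ Nat.card A := by
    obtain ⟨n, hn⟩ := IsPGroup.iff_card.1 (isPGroup_pc p H)
    rcases n with _ | n
    · exact absurd (Subgroup.card_eq_one.1 (by simpa using hn)) hne
    · have hd : p ∣ Nat.card ↥(pc p H) := hn ▸ dvd_pow_self p n.succ_ne_zero
      exact (h.dvd_or hp hd).resolve_right fun hB => hne (hbot p hp hB)
  obtain ⟨g, hcores, hZ⟩ := h.hall_center hH hsol hp hpA hne
  obtain ⟨z, hz, ho⟩ := h.exists_center_order hp hpA
  obtain ⟨M, hM⟩ := h.exists_isMax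
  refine h.no_A_Q hM.1.1 (x := 1) (by rw [cj_one]; exact hM.2) (y := g⁻¹ * y)
    (le_normalizer_of_le_ZC le_rfl) h.symm.ZC_ne_bot ?_
  rw [← cj_cj]
  rintro _ ⟨w, hw, rfl⟩
  have hcom := commute_conj_of_central hsol (hZ (conj_mem_cj g hz)) (fun q hq u hu => ?_) (hY hw)
  · refine h.mem_max_of_commute_conj hM hp hpA hz ho ?_
    have h2 := hcom.map (MulAut.conj g⁻¹)
    have e1 : MulAut.conj g⁻¹ (g * z * g⁻¹) = z := by
      simp only [MulAut.conj_apply]; group
    have e2 : MulAut.conj g⁻¹ (w * (g * z * g⁻¹) * w⁻¹) =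
        (MulAut.conj g⁻¹).toMonoidHom w * z * ((MulAut.conj g⁻¹).toMonoidHom w)⁻¹ := by
      simp only [MulEquiv.coe_toMonoidHom, MulAut.conj_apply]; group
    rwa [e1, e2] at h2
  · by_cases hqA : q ∣ Nat.card A
    · obtain ⟨v, hv, rfl⟩ := hcores q hq hqA hu
      show MulAut.conj g v * MulAut.conj g z = MulAut.conj g z * MulAut.conj g v
      rw [← map_mul, ← map_mul, commute_ZC hz hv]
    · haveI := Fact.mk hq
      obtain ⟨n, hn⟩ := IsPGroup.iff_card.1 (isPGroup_pc q H)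
      have hu1 : u = 1 := by
        rcases n with _ | n
        · rw [(Subgroup.card_eq_one (H := pc q H)).1 (by simpa using hn)] at hu
          exact mem_bot.1 hu
        · have hd : q ∣ Nat.card ↥(pc q H) := hn ▸ dvd_pow_self q n.succ_ne_zero
          rw [hbot q hq ((h.dvd_or hq hd).resolve_left hqA)] at hu
          exact mem_bot.1 hu
      rw [hu1, one_mul, mul_one]

lemma exists_trivial_core (h : Hyp A B) {H : Subgroup G} (hH : IsCoatom H) {g y : G}
    (hcores : ∀ s : ℕ, s.Prime → s ∣ Nat.card A → pc s H ≤ cj g A) (hY : cj y (ZC B) ≤ H) :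
    ∃ s : ℕ, s.Prime ∧ s ∣ Nat.card A ∧ pc s H = ⊥ := by
  by_contra hall
  push Not at hall
  refine h.no_A_Q hH.1 (x := g) ?_ (le_normalizer_of_le_ZC le_rfl) h.symm.ZC_ne_bot hY
  refine le_of_forall_ppow fun t ht x hx hxo => ?_
  obtain ⟨r, hr, hrA, hrt⟩ := h.exists_prime_ne t
  haveI := Fact.mk hr
  have hne := hall r hr hrA
  have hN : normalizer (pc r H : Set G) = H :=
    ((IsCoatom.le_iff hH).1 (le_normalizer_pc r H)).resolve_left
      (h.normalizer_ne_top hne fun e => hH.1 (top_unique (e ▸ pc_le r H)))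
  rw [← hN]
  refine centralizer_le_normalizer _ (mem_centralizer_iff.2 fun u hu => ?_)
  obtain ⟨i, hi⟩ := IsPGroup.iff_orderOf.1 (isPGroup_pc r H) ⟨u, hu⟩
  rw [Subgroup.orderOf_mk] at hi
  exact (h.commute_cj hr ht hrt (hcores r hr hrA hu) hx ⟨i, hi⟩ hxo).eq

/-- No proper subgroup contains conjugates of both centres. -/
theorem no_centres (h : Hyp A B) {K : Subgroup G} (hK : K ≠ ⊤) {x y : G}
    (hA : cj x (ZC A) ≤ K) (hB : cj y (ZC B) ≤ K) : False := by
  -- we may assume that the centres themselves lie in a maximal subgroup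
  obtain ⟨g, hgA, hgB⟩ := h.pairs x y
  have hA1 : ZC A ≤ cj g⁻¹ K := by
    have := cj_mono g⁻¹ ((hgA (ZC A) (le_normalizer_of_le_ZC le_rfl)).trans_le hA)
    rwa [cj_cj, inv_mul_cancel, cj_one] at this
  have hB1 : ZC B ≤ cj g⁻¹ K := by
    have := cj_mono g⁻¹ ((hgB (ZC B) (le_normalizer_of_le_ZC le_rfl)).trans_le hB)
    rwa [cj_cj, inv_mul_cancel, cj_one] at this
  obtain ⟨H, hH, hKH⟩ :=
    (eq_top_or_exists_le_coatom (cj g⁻¹ K)).resolve_left (cj_ne_top hK)
  have hsol := h.solvable_of_centres hH.1 (hA1.trans hKH) (hB1.trans hKH)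
  have hAH : cj 1 (ZC A) ≤ H := by rw [cj_one]; exact hA1.trans hKH
  have hBH : cj 1 (ZC B) ≤ H := by rw [cj_one]; exact hB1.trans hKH
  -- both types of cores occur
  obtain ⟨q, hq, hqB, hqne⟩ : ∃ q : ℕ, q.Prime ∧ q ∣ Nat.card B ∧ pc q H ≠ ⊥ := by
    by_contra hc
    push Not at hc
    exact h.no_cores_one_side hH hsol hBH hc
  obtain ⟨p, hp, hpA, hpne⟩ : ∃ p : ℕ, p.Prime ∧ p ∣ Nat.card A ∧ pc p H ≠ ⊥ := by
    by_contra hc
    push Not at hc
    exact h.symm.no_cores_one_side hH hsol hAH hc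
  obtain ⟨a, hca, hZa⟩ := h.hall_center hH hsol hp hpA hpne
  obtain ⟨b, hcb, hZb⟩ := h.symm.hall_center hH hsol hq hqB hqne
  obtain ⟨s, hs, hsA, hsbot⟩ := h.exists_trivial_core hH hca hBH
  obtain ⟨t, ht, htB, htbot⟩ := h.symm.exists_trivial_core hH hcb hAH
  haveI := Fact.mk hs
  haveI := Fact.mk ht
  obtain ⟨z₀, hz₀, hoz⟩ := h.exists_center_order hs hsA
  obtain ⟨y₀, hy₀, hoy⟩ := h.symm.exists_center_order ht htB
  set z := a * z₀ * a⁻¹ with hz
  set w := b * y₀ * b⁻¹ with hw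
  have hzH : z ∈ H := hZa (conj_mem_cj a hz₀)
  have hwH : w ∈ H := hZb (conj_mem_cj b hy₀)
  have hoz' : orderOf z = s :=
    (orderOf_injective (MulAut.conj a).toMonoidHom (MulAut.conj a).injective z₀).trans hoz
  have how : orderOf w = t :=
    (orderOf_injective (MulAut.conj b).toMonoidHom (MulAut.conj b).injective y₀).trans hoy
  have hzc : ∀ r : ℕ, r.Prime → r ∣ Nat.card A → ∀ u ∈ pc r H, u * z = z * u := by
    intro r hr hrA u hu
    obtain ⟨v, hv, rfl⟩ := hca r hr hrA hu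
    show MulAut.conj a v * MulAut.conj a z₀ = MulAut.conj a z₀ * MulAut.conj a v
    rw [← map_mul, ← map_mul, commute_ZC hz₀ hv]
  have hwc : ∀ r : ℕ, r.Prime → r ∣ Nat.card B → ∀ u ∈ pc r H, u * w = w * u := by
    intro r hr hrB u hu
    obtain ⟨v, hv, rfl⟩ := hcb r hr hrB hu
    show MulAut.conj b v * MulAut.conj b y₀ = MulAut.conj b y₀ * MulAut.conj b v
    rw [← map_mul, ← map_mul, commute_ZC hy₀ hv]
  set d := z * w * z⁻¹ * w⁻¹ with hd
  have hdH : d ∈ H :=
    H.mul_mem (H.mul_mem (H.mul_mem hzH hwH) (H.inv_mem hzH)) (H.inv_mem hwH)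
  have hone : ∀ r : ℕ, r.Prime → ¬ (r ∣ Nat.card A ∨ r ∣ Nat.card B) → ∀ u ∈ pc r H, u = 1 := by
    intro r hr hn u hu
    haveI := Fact.mk hr
    obtain ⟨n, hn'⟩ := IsPGroup.iff_card.1 (isPGroup_pc r H)
    rcases n with _ | n
    · rw [(Subgroup.card_eq_one (H := pc r H)).1 (by simpa using hn')] at hu
      exact mem_bot.1 hu
    · have hd' : r ∣ Nat.card ↥(pc r H) := hn' ▸ dvd_pow_self r n.succ_ne_zero
      exact absurd (h.dvd_or hr hd') hn
  have hdc : ∀ r : ℕ, r.Prime → ∀ u ∈ pc r H, u * d = d * u := by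
    intro r hr u hu
    by_cases hn : r ∣ Nat.card A ∨ r ∣ Nat.card B
    swap
    · rw [hone r hr hn u hu, one_mul, mul_one]
    rcases hn with hr' | hr'
    · have h1 : Commute u z := hzc r hr hr' u hu
      have h2 : Commute u (w * z⁻¹ * w⁻¹) := by
        have := (show Commute _ z from hzc r hr hr' _ (conj_mem_pc (H.inv_mem hwH) hu)).inv_right
        show u * (w * z⁻¹ * w⁻¹) = w * z⁻¹ * w⁻¹ * u
        calc u * (w * z⁻¹ * w⁻¹) = w * ((w⁻¹ * u * w⁻¹⁻¹) * z⁻¹) * w⁻¹ := by group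
          _ = w * (z⁻¹ * (w⁻¹ * u * w⁻¹⁻¹)) * w⁻¹ := by rw [this.eq]
          _ = _ := by group
      rw [show d = z * (w * z⁻¹ * w⁻¹) by rw [hd]; group]
      exact h1.mul_right h2
    · have h1 : Commute u w := hwc r hr hr' u hu
      have h2 : Commute u (z * w * z⁻¹) := by
        have : Commute _ w := hwc r hr hr' _ (conj_mem_pc (H.inv_mem hzH) hu)
        show u * (z * w * z⁻¹) = z * w * z⁻¹ * u
        calc u * (z * w * z⁻¹) = z * ((z⁻¹ * u * z⁻¹⁻¹) * w) * z⁻¹ := by group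
          _ = z * (w * (z⁻¹ * u * z⁻¹⁻¹)) * z⁻¹ := by rw [this.eq]
          _ = _ := by group
      exact h2.mul_right h1.inv_right
  have hdF : d ∈ fit H := mem_fit hsol hdH hdc
  set D := fit H ⊓ centralizer (fit H : Set G) with hD
  have hdD : d ∈ D := ⟨hdF, mem_centralizer_iff.2 (commute_fit hdc)⟩
  -- a conjugation moving `v` by an element of `D`
  have hmove : ∀ (m n : ℕ) (v δ : G), v ∈ H → δ ∈ D → v ^ n = 1 → (δ * v) ^ n = 1 →
      Commute v (δ ^ m) → (δ ^ m) ^ n = 1 := by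
    intro m n v δ hvH hδ hv hδv hc
    have hDc : ∀ u ∈ D, ∀ u' ∈ D, Commute u u' := fun u hu u' hu' =>
      mem_centralizer_iff.1 hu'.2 u hu.1
    have hDn : ∀ k ∈ H, ∀ u ∈ D, k * u * k⁻¹ ∈ D := by
      refine fun k hk u hu => ⟨conj_mem_fit hk hu.1, mem_centralizer_iff.2 fun x hx => ?_⟩
      have := mem_centralizer_iff.1 hu.2 _ (conj_mem_fit (H.inv_mem hk) hx)
      calc x * (k * u * k⁻¹) = k * ((k⁻¹ * x * k⁻¹⁻¹) * u) * k⁻¹ := by group
        _ = k * (u * (k⁻¹ * x * k⁻¹⁻¹)) * k⁻¹ := by rw [this]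
        _ = _ := by group
    have hind : ∀ i : ℕ, (δ * v) ^ i * (v ^ i)⁻¹ ∈ D ∧
        ((δ * v) ^ i * (v ^ i)⁻¹) ^ m = (δ ^ m) ^ i := by
      intro i
      induction i with
      | zero => simp [D.one_mem]
      | succ i ih =>
        have e : (δ * v) ^ (i + 1) * (v ^ (i + 1))⁻¹ =
            ((δ * v) ^ i * (v ^ i)⁻¹) * (v ^ i * δ * (v ^ i)⁻¹) := by
          rw [pow_succ, pow_succ]; group
        have h2 := hDn _ (H.pow_mem hvH i) δ hδ
        refine ⟨e ▸ D.mul_mem ih.1 h2, ?_⟩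
        rw [e, (hDc _ ih.1 _ h2).mul_pow, ih.2, conj_pow, ((hc.pow_left i)).eq,
          mul_inv_cancel_right, ← pow_succ]
    have := (hind n).2
    rw [hδv, hv, inv_one, mul_one, one_pow] at this
    exact this.symm
  -- the parts of `d` commute with one of the two elements
  have hparts : ∀ (m : ℕ) (v : G), (∀ r : ℕ, r.Prime → ¬ r ∣ m → ∀ u ∈ pc r H, u * v = v * u) →
      (Nat.card G ∣ m * (Nat.card G / m)) → (Nat.card G / m).Coprime m →
      Commute v (d ^ m) := by
    intro m v hv hm hcop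
    have hle : zpowers (d ^ m) ≤ centralizer ({v} : Set G) := by
      refine le_of_forall_ppow fun r hr x hx hxo => mem_centralizer_singleton_iff.2 ?_
      haveI := Fact.mk hr
      have hxF : x ∈ fit H := zpowers_le.2 ((fit H).pow_mem hdF m) hx
      obtain ⟨i, hi⟩ := hxo
      have hxpc := mem_pc_of_mem_fit hxF ⟨i, hi⟩
      rcases i with _ | i
      · rw [(orderOf_eq_one_iff (x := x)).1 (by simpa using hi), one_mul, mul_one]
      refine hv r hr (fun hrm => ?_) x hxpc
      have h1 : orderOf x ∣ orderOf (d ^ m) := orderOf_dvd_of_mem_zpowers hx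
      have h2 : orderOf (d ^ m) ∣ Nat.card G / m := by
        refine orderOf_dvd_of_pow_eq_one ?_
        rw [← pow_mul]
        exact orderOf_dvd_iff_pow_eq_one.1 ((orderOf_dvd_natCard d).trans hm)
      have h3 : r ∣ Nat.card G / m := (hi ▸ dvd_pow_self r i.succ_ne_zero).trans (h1.trans h2)
      exact hr.ne_one (Nat.eq_one_of_dvd_coprimes hcop h3 hrm)
    exact (mem_centralizer_singleton_iff.1 (hle (mem_zpowers _))).symm
  have hGA : Nat.card G / Nat.card A = Nat.card B := by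
    rw [← h.card_eq, Nat.mul_div_cancel_left _ Nat.card_pos]
  have hGB : Nat.card G / Nat.card B = Nat.card A := by
    rw [← h.card_eq, Nat.mul_div_cancel _ Nat.card_pos]
  have hA0 : d ^ Nat.card A = 1 := by
    have hc : Commute w (d ^ Nat.card A) := hparts _ w (fun r hr hrA u hu => by
      by_cases hrB : r ∣ Nat.card B
      · exact hwc r hr hrB u hu
      · rw [hone r hr (by tauto) u hu, one_mul, mul_one])
      (by rw [hGA, h.card_eq]) (hGA ▸ h.cop.symm)
    have hwn : w ^ t = 1 := how ▸ pow_orderOf_eq_one w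
    have hdw : (d * w) ^ t = 1 := by
      rw [show d * w = z * w * z⁻¹ by rw [hd]; group, conj_pow, hwn, mul_one, mul_inv_cancel]
    have h1 := hmove _ t w d hwH hdD hwn hdw hc
    refine orderOf_eq_one_iff.1 (Nat.eq_one_of_dvd_coprimes ?_ (orderOf_dvd_of_pow_eq_one h1)
      (orderOf_pow_dvd _))
    exact ((Nat.Prime.coprime_iff_not_dvd ht).2 (not_dvd_orderOf_of_pc_eq_bot htbot hdF))
  have hB0 : d ^ Nat.card B = 1 := by
    have hc : Commute z (d ^ Nat.card B) := hparts _ z (fun r hr hrB u hu => by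
      by_cases hrA : r ∣ Nat.card A
      · exact hzc r hr hrA u hu
      · rw [hone r hr (by tauto) u hu, one_mul, mul_one])
      (by rw [hGB, mul_comm, h.card_eq]) (hGB ▸ h.cop)
    have hzn : z ^ s = 1 := hoz' ▸ pow_orderOf_eq_one z
    have hdz : (d⁻¹ * z) ^ s = 1 := by
      rw [show d⁻¹ * z = w * z * w⁻¹ by rw [hd]; group, conj_pow, hzn, mul_one, mul_inv_cancel]
    have hc' : Commute z (d⁻¹ ^ Nat.card B) := by rw [inv_pow]; exact hc.inv_right
    have h1 := hmove _ s z d⁻¹ hzH (D.inv_mem hdD) hzn hdz hc'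
    rw [inv_pow, inv_pow, inv_eq_one] at h1
    refine orderOf_eq_one_iff.1 (Nat.eq_one_of_dvd_coprimes ?_ (orderOf_dvd_of_pow_eq_one h1)
      (orderOf_pow_dvd _))
    exact ((Nat.Prime.coprime_iff_not_dvd hs).2 (not_dvd_orderOf_of_pc_eq_bot hsbot hdF))
  have hd1 : d = 1 := orderOf_eq_one_iff.1
    (Nat.eq_one_of_dvd_coprimes h.cop (orderOf_dvd_of_pow_eq_one hA0) (orderOf_dvd_of_pow_eq_one hB0))
  -- so `z` and `w` commute
  have hcomm : w * z = z * w := by
    rw [hd, mul_inv_eq_one, mul_inv_eq_iff_eq_mul] at hd1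
    exact hd1.symm
  refine h.no_A_Q (K := centralizer ({z} : Set G))
    (h.centralizer_ne_top fun e => hs.ne_one (by rw [← hoz', e, orderOf_one])) (x := a) ?_
    (Q := zpowers y₀) (h.zpowers_normalized hy₀)
    (fun e => ht.ne_one (by rw [← hoy, zpowers_eq_bot.1 e, orderOf_one])) (y := b) ?_
  · rintro _ ⟨v, hv, rfl⟩
    refine mem_centralizer_singleton_iff.2 ?_
    show MulAut.conj a v * MulAut.conj a z₀ = MulAut.conj a z₀ * MulAut.conj a v
    rw [← map_mul, ← map_mul, commute_ZC hz₀ hv]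
  · rw [cj, MonoidHom.map_zpowers, zpowers_le]
    exact mem_centralizer_singleton_iff.2 hcomm

/-- No nontrivial normal subgroup of `B` normalizes a nontrivial subgroup whose primes divide the
order of `A`. -/
theorem no_invariant (h : Hyp A B) {Q : Subgroup G} (hQB : Q ≤ B)
    (hQ : B ≤ normalizer (Q : Set G)) (hQne : Q ≠ ⊥) {P₀ : Subgroup G} (hP₀ : PiA A P₀)
    (hP₀ne : P₀ ≠ ⊥) (hQP : Q ≤ normalizer (P₀ : Set G)) : False := by
  classical
  obtain ⟨P₁, ⟨hP1, hP1ne, hQP1⟩, hmax1⟩ := Set.exists_max_image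
    {P : Subgroup G | PiA A P ∧ P ≠ ⊥ ∧ Q ≤ normalizer (P : Set G)} (fun P => Nat.card P)
    (Set.toFinite _) ⟨P₀, hP₀, hP₀ne, hQP⟩
  -- move it into `A`
  obtain ⟨x, hx⟩ := h.dom hP1
  obtain ⟨g, hgA, hgQ⟩ := h.pairs x 1
  set P := cj g⁻¹ P₁ with hPdef
  have hPA : P ≤ A := by
    have := cj_mono g⁻¹ (hx.trans_eq (hgA A le_normalizer).symm)
    rwa [cj_cj, inv_mul_cancel, cj_one] at this
  have hgQ' : cj g⁻¹ Q = Q := by
    have h1 := congrArg (cj g⁻¹) (hgQ Q hQ)
    rw [cj_cj, inv_mul_cancel, cj_one] at h1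
    exact h1.symm
  have hPne : P ≠ ⊥ := fun e => hP1ne (cj_eq_bot.1 e)
  have hQnP : Q ≤ normalizer (P : Set G) := by
    intro q hq
    rw [← hgQ'] at hq
    obtain ⟨q', hq', rfl⟩ := hq
    exact mem_normalizer_cj (hQP1 hq')
  have hmax : ∀ P' : Subgroup G, PiA A P' → P ≤ P' → Q ≤ normalizer (P' : Set G) → P' ≤ P := by
    intro P' hpi hle hn
    refine (eq_of_le_of_card_ge hle ?_).ge
    rw [hPdef, card_cj]
    exact hmax1 P' ⟨hpi, fun e => hPne (le_bot_iff.1 (e ▸ hle)), hn⟩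
  -- the centralizer of the normal closure of the centre of `A`
  set W := ZC A ⊔ Q with hW
  have hWP : W ≤ normalizer (P : Set G) := by
    refine sup_le (fun z hz => centralizer_le_normalizer _ (mem_centralizer_iff.2 fun u hu => ?_)) hQnP
    exact commute_ZC hz (hPA hu)
  set V := closure {v : G | ∃ w ∈ W, ∃ z ∈ ZC A, v = w * z * w⁻¹} with hV
  have hPV : P ≤ centralizer (V : Set G) := by
    refine le_centralizer_iff.1 ((closure_le _).2 ?_)
    rintro _ ⟨w, hw, z, hz, rfl⟩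
    refine mem_centralizer_iff.2 fun u hu => ?_
    have hu' : w⁻¹ * u * w⁻¹⁻¹ ∈ P :=
      (mem_normalizer_iff.1 (hWP (W.inv_mem hw)) u).1 hu
    calc u * (w * z * w⁻¹) = w * ((w⁻¹ * u * w⁻¹⁻¹) * z) * w⁻¹ := by group
      _ = w * (z * (w⁻¹ * u * w⁻¹⁻¹)) * w⁻¹ := by rw [commute_ZC hz (hPA hu')]
      _ = _ := by group
  set C := centralizer (V : Set G) with hC
  have hCne : C ≠ ⊥ := fun e => hPne (le_bot_iff.1 (e ▸ hPV))
  have hZV : ∀ z ∈ ZC A, z ∈ V := fun z hz =>
    subset_closure ⟨1, W.one_mem, z, hz, by simp⟩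
  have hCtop : C ≠ ⊤ := fun e => by
    obtain ⟨s, hs, hsA, -⟩ := h.exists_prime_ne 0
    obtain ⟨z, hz, ho⟩ := h.exists_center_order hs hsA
    refine h.centralizer_ne_top (x := z) (fun e' => hs.ne_one (by rw [← ho, e', orderOf_one]))
      (eq_top_iff.2 fun u _ => mem_centralizer_singleton_iff.2 ?_)
    exact (mem_centralizer_iff.1 (e ▸ mem_top u : u ∈ C) z (hZV z hz)).symm
  set K := normalizer (C : Set G) with hK
  have hKtop : K ≠ ⊤ := h.normalizer_ne_top hCne hCtop
  have hWK : W ≤ K := by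
    intro w hw
    refine mem_normalizer_fintype fun c hc => mem_centralizer_iff.2 fun v hv => ?_
    have hv' : w⁻¹ * v * w ∈ V := by
      induction hv using closure_induction with
      | mem v hv =>
        obtain ⟨w', hw', z, hz, rfl⟩ := hv
        exact subset_closure ⟨w⁻¹ * w', W.mul_mem (W.inv_mem hw) hw', z, hz, by group⟩
      | one => simp [V.one_mem]
      | mul a b _ _ ha hb =>
        rw [show w⁻¹ * (a * b) * w = (w⁻¹ * a * w) * (w⁻¹ * b * w) by group]
        exact V.mul_mem ha hb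
      | inv a _ ha =>
        rw [show w⁻¹ * a⁻¹ * w = (w⁻¹ * a * w)⁻¹ by group]
        exact V.inv_mem ha
    have := mem_centralizer_iff.1 hc _ hv'
    calc v * (w * c * w⁻¹) = w * ((w⁻¹ * v * w) * c) * w⁻¹ := by group
      _ = w * (c * (w⁻¹ * v * w)) * w⁻¹ := by rw [this]
      _ = _ := by group
  have hCV : ∀ v ∈ V, ∀ c ∈ C, c * v = v * c := fun v hv c hc =>
    (mem_centralizer_iff.1 hc v hv).symm
  -- `K` is factorised
  have hsol : Group.IsSolvable K := by
    refine h.solvable_of_factor hKtop fun a ha b hb hab => ?_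
    have hW' : ∀ q ∈ Q, a * q * a⁻¹ ∈ K := fun q hq => by
      have hq' : b⁻¹ * q * b⁻¹⁻¹ ∈ Q := (mem_normalizer_iff.1 (hQ (B.inv_mem hb)) q).1 hq
      rw [show a * q * a⁻¹ = (a * b) * (b⁻¹ * q * b⁻¹⁻¹) * (a * b)⁻¹ by group]
      exact K.mul_mem (K.mul_mem hab (hWK (mem_sup_right hq'))) (K.inv_mem hab)
    have hWa : ∀ w ∈ W, a * w * a⁻¹ ∈ K := by
      intro w hw
      have hle : W ≤ K.comap (MulAut.conj a).toMonoidHom := sup_le
        (fun z hz => show a * z * a⁻¹ ∈ K by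
          rw [commute_ZC hz ha, mul_inv_cancel_right]
          exact hWK (mem_sup_left hz))
        (fun q hq => hW' q hq)
      exact hle hw
    have hle : C ≤ cj a C := by
      intro c hc
      rw [mem_cj]
      refine mem_centralizer_iff.2 fun v hv => ?_
      induction hv using closure_induction with
      | mem v hv =>
        obtain ⟨w, hw, z, hz, rfl⟩ := hv
        set k := a * w * a⁻¹ with hk
        have hc' : k⁻¹ * c * k⁻¹⁻¹ ∈ C :=
          (mem_normalizer_iff.1 (K.inv_mem (hWa w hw)) c).1 hc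
        have hcz := hCV z (hZV z hz) _ hc'
        have haz : a * z = z * a := commute_ZC hz ha
        calc w * z * w⁻¹ * (a⁻¹ * c * a)
            = a⁻¹ * (k * ((a * z * a⁻¹) * (k⁻¹ * c * k⁻¹⁻¹)) * k⁻¹) * a := by rw [hk]; group
          _ = a⁻¹ * (k * ((k⁻¹ * c * k⁻¹⁻¹) * (a * z * a⁻¹)) * k⁻¹) * a := by
            rw [haz, mul_inv_cancel_right, hcz]
          _ = a⁻¹ * c * a * (w * z * w⁻¹) := by rw [hk]; group
      | one => simp
      | mul u u' _ _ hu hu' => exact (show Commute (u * u') (a⁻¹ * c * a) from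
          Commute.mul_left hu hu').eq
      | inv u _ hu => exact (show Commute u⁻¹ (a⁻¹ * c * a) from Commute.inv_left hu).eq
    exact Cfsg.Lib.Transfer.map_conj_eq_self_iff.1
      (eq_of_le_of_card_ge hle (card_cj a C).le).symm
  -- the cores of `K`
  have hcore : ∀ p : ℕ, p.Prime → pc p K ≤ P := by
    intro p hp
    haveI := Fact.mk hp
    obtain ⟨n, hn⟩ := IsPGroup.iff_card.1 (isPGroup_pc p K)
    rcases n with _ | n
    · rw [(Subgroup.card_eq_one (H := pc p K)).1 (by simpa using hn)]; exact bot_le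
    have hd : p ∣ Nat.card ↥(pc p K) := hn ▸ dvd_pow_self p n.succ_ne_zero
    have hne : pc p K ≠ ⊥ := fun e => by
      rw [e, card_bot, Nat.dvd_one] at hd
      exact hp.ne_one hd
    rcases h.dvd_or hp hd with hpA | hpB
    · have hPK : P ≤ K := hPV.trans le_normalizer
      refine le_trans le_sup_right (hmax (P ⊔ pc p K) ?_ le_sup_left ?_)
      · intro r hr hrd
        have h2 : Nat.card ↥(P ⊔ pc p K) ∣ Nat.card P * Nat.card ↥(pc p K) := by
          rw [sup_comm, mul_comm]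
          exact Dvd.intro _
            (Cfsg.Lib.Coprime.card_sup_mul_card_inf (hPK.trans (le_normalizer_pc p K)))
        rcases hr.dvd_mul.1 (hrd.trans h2) with h3 | h3
        · exact h3.trans (card_dvd_of_le hPA)
        · exact h.piA_of_pgroup (isPGroup_pc p K) hpA r hr h3
      · intro q hq
        rw [← Cfsg.Lib.Transfer.map_conj_eq_self_iff, Subgroup.map_sup,
          Cfsg.Lib.Transfer.map_conj_eq_self_iff.2 (hQnP hq),
          Cfsg.Lib.Transfer.map_conj_eq_self_iff.2 (le_normalizer_pc p K (hWK (mem_sup_right hq)))]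
    · exfalso
      obtain ⟨y, hy⟩ := h.symm.dom (h.symm.piA_of_pgroup (isPGroup_pc p K) hpB)
      refine h.no_centres (h.normalizer_ne_top hne fun e => hKtop (top_unique (e ▸ pc_le p K)))
        (x := 1) ?_ (y := y) ?_
      · rw [cj_one]
        exact le_trans (le_sup_left.trans hWK) (le_normalizer_pc p K)
      · refine le_trans ?_ (centralizer_le_normalizer _)
        rintro _ ⟨z, hz, rfl⟩
        refine mem_centralizer_iff.2 fun u hu => ?_
        obtain ⟨v, hv, rfl⟩ := hy hu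
        rw [← map_mul, ← map_mul, commute_ZC hz hv]
  obtain ⟨s, hs, hsA, -⟩ := h.exists_prime_ne 0
  obtain ⟨z, hz, ho⟩ := h.exists_center_order hs hsA
  obtain ⟨M, hM⟩ := h.exists_isMax
  refine h.no_A_Q hM.1.1 (x := 1) (by rw [cj_one]; exact hM.2) (y := 1) hQ hQne ?_
  rw [cj_one]
  intro q hq
  exact h.mem_max_of_commute_conj hM hs hsA hz ho (commute_conj_of_central hsol
    (hWK (mem_sup_left hz)) (fun p hp u hu => commute_ZC hz (hPA (hcore p hp hu)))
    (hWK (mem_sup_right hq)))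

end Hyp

end Cfsg.Lib.SolvStruct.KW
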