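/-
Wielandt's theorem: a product of two nilpotent subgroups of coprime orders is solvable.
-/
import Cfsg.Agent.SolvStruct.KegelWielandt.Invariant
import Cfsg.Agent.Thompson.PComplement
import Cfsg.Agent.Thompson.Subgroup
import Cfsg.Agent.Splitting.Basic
import Cfsg.Agent.Coprime.Sylow

set_option autoImplicit false
set_option linter.style.haveILetI false
set_option linter.unusedSectionVars false

namespace Cfsg.Lib.SolvStruct.KW

open Subgroup

universe u

variable {G : Type u} [Group G] [Finite G] {A B : Subgroup G}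

namespace Hyp

/-- `|B|` is odd. -/
theorem odd_B (h : Hyp A B) : ¬ 2 ∣ Nat.card B := by
  intro h2
  obtain ⟨L, hL⟩ := h.symm.exists_isMax
  obtain ⟨y, hy, ho⟩ := h.symm.exists_center_order Nat.prime_two h2
  haveI : Fact (Nat.Prime 2) := ⟨Nat.prime_two⟩
  have hy1 : y ≠ 1 := fun e => Nat.prime_two.ne_one (by rw [← ho, e, orderOf_one])
  have hyy : y * y = 1 := by rw [← pow_two, ← ho, pow_orderOf_eq_one]
  refine h.symm.no_A_Q (K := L) hL.1.1 (x := 1) (by rw [cj_one]; exact hL.2) (y := 1)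
    (Q := A) le_normalizer h.A_ne_bot ?_
  rw [cj_one]
  intro a ha
  set y' := a * y * a⁻¹ with hy'
  have hyy' : y' * y' = 1 := by rw [hy', show a * y * a⁻¹ * (a * y * a⁻¹) = a * (y * y) * a⁻¹ by group, hyy, mul_one, mul_inv_cancel]
  set d := y * y' with hd
  have hinv : y * d * y⁻¹ = d⁻¹ := by
    rw [hd, mul_inv_rev, inv_eq_of_mul_eq_one_right hyy, inv_eq_of_mul_eq_one_right hyy',
      ← mul_assoc, hyy, one_mul]
  have hinvz : ∀ i : ℤ, y * d ^ i * y⁻¹ = (d ^ i)⁻¹ := fun i => by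
    rw [← conj_zpow, hinv, inv_zpow]
  -- `y` normalizes no nontrivial cyclic subgroup of the type of `A`
  have hd' : ∀ r : ℕ, r.Prime → r ∣ orderOf d → r ∣ Nat.card B := by
    intro r hr hrd
    haveI := Fact.mk hr
    refine ((h.dvd_or hr (K := zpowers d) (by rwa [Nat.card_zpowers]))).resolve_left fun hrA => ?_
    set e := d ^ (orderOf d / r) with he
    have hoe : orderOf e = r := by
      rw [he, orderOf_pow_of_dvd (Nat.div_pos (Nat.le_of_dvd (orderOf_pos d) hrd) hr.pos).ne'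
        (Nat.div_dvd_of_dvd hrd), Nat.div_div_self hrd (orderOf_pos d).ne']
    refine h.no_invariant (Q := zpowers y) (zpowers_le.2 hy.1) (h.zpowers_normalized hy)
      (fun e => hy1 (zpowers_eq_bot.1 e)) (P₀ := zpowers e)
      (h.piA_of_pgroup (IsPGroup.of_card (n := 1) (by rw [Nat.card_zpowers, pow_one, hoe])) hrA)
      (fun e' => hr.ne_one (by rw [← hoe, zpowers_eq_bot.1 e', orderOf_one])) (zpowers_le.2 ?_)
    refine mem_normalizer_fintype ?_
    rintro _ ⟨i, rfl⟩
    show y * e ^ i * y⁻¹ ∈ zpowers e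
    rw [he, ← zpow_natCast, ← zpow_mul, hinvz, zpow_mul, zpow_natCast]
    exact (zpowers (d ^ (orderOf d / r))).inv_mem (zpow_mem_zpowers _ i)
  set K := zpowers d ⊔ zpowers y with hK
  have hpi : PiA B K := by
    intro r hr hrd
    have hn : zpowers y ≤ normalizer (zpowers d : Set G) := by
      refine zpowers_le.2 (mem_normalizer_fintype ?_)
      rintro _ ⟨i, rfl⟩
      show y * d ^ i * y⁻¹ ∈ zpowers d
      rw [hinvz]
      exact (zpowers d).inv_mem (zpow_mem_zpowers _ i)
    have hdv : Nat.card K ∣ orderOf d * 2 := by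
      rw [← Nat.card_zpowers, ← ho, ← Nat.card_zpowers y]
      exact Dvd.intro _ (Cfsg.Lib.Coprime.card_sup_mul_card_inf hn)
    rcases hr.dvd_mul.1 (hrd.trans hdv) with h3 | h3
    · exact hd' r hr h3
    · exact (Nat.prime_dvd_prime_iff_eq hr Nat.prime_two).1 h3 ▸ h2
  obtain ⟨k, hk⟩ := h.symm.dom hpi
  have hykB : y ∈ cj k B := hk (mem_sup_right (mem_zpowers y))
  have hy'kB : y' ∈ cj k B := by
    have : y⁻¹ * d ∈ cj k B := (cj k B).mul_mem ((cj k B).inv_mem hykB)
      (hk (mem_sup_left (mem_zpowers d)))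
    rwa [hd, inv_mul_cancel_left] at this
  have hkL := h.symm.mem_max_of_center hL Nat.prime_two hy ho hykB
  have haL : a⁻¹ * k ∈ L := h.symm.mem_max_of_center hL Nat.prime_two hy ho (by
    rw [← cj_cj, mem_cj, inv_inv]
    exact hy'kB)
  have := L.mul_mem hkL (L.inv_mem haL)
  simpa using this

lemma centralizer_inf_max_eq_bot (h : Hyp A B) {M : Subgroup G} (hM : IsMax A M) {s : ℕ}
    (hs : s.Prime) (hne : pc s M ≠ ⊥) {b : G} (hb : b ∈ B ⊓ M)
    (hc : ∀ u ∈ pc s M, u * b = b * u) : b = 1 := by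
  by_contra hb1
  refine h.symm.no_invariant (Q := pc s M) (h.pc_le_A hM hs) (hM.2.trans (le_normalizer_pc s M))
    hne (P₀ := zpowers b) (fun r hr hd => hd.trans (card_dvd_of_le (zpowers_le.2 hb.1)))
    (fun e => hb1 (zpowers_eq_bot.1 e)) ?_
  intro u hu
  refine centralizer_le_normalizer _ (mem_centralizer_iff.2 fun v hv => ?_)
  obtain ⟨i, rfl⟩ := hv
  exact ((show Commute u b from hc u hu).zpow_right i).eq.symm

/-- A prime element of `M` of type `B` is conjugate in `M` into `B ⊓ M`. -/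
lemma exists_conj_mem_B (h : Hyp A B) {M : Subgroup G} (hM : IsMax A M) {q : ℕ} (hq : q.Prime)
    (hqB : q ∣ Nat.card B) {x : G} (hx : x ∈ M) (hxo : ∃ i, orderOf x = q ^ i) :
    ∃ m ∈ M, m⁻¹ * x * m ∈ B ⊓ M := by
  haveI := Fact.mk hq
  obtain ⟨i, hi⟩ := hxo
  suffices hnd : ¬ q ∣ (B ⊓ M).relIndex M by
    obtain ⟨m, hm, hle⟩ := exists_conj_le_of_relIndex (p := q) (H := B ⊓ M) inf_le_right
      (zpowers_le.2 hx) (IsPGroup.of_card (n := i) (by rw [Nat.card_zpowers, hi])) hnd
    exact ⟨m, hm, mem_cj.1 (hle (mem_zpowers x))⟩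
  · intro hd
    let f : ↥A × ↥(B ⊓ M) → M := fun x => ⟨(x.1 : G) * x.2, M.mul_mem (hM.2 x.1.2) x.2.2.2⟩
    have hf : Function.Surjective f := fun k => by
      obtain ⟨a, ha, b, hb, e⟩ := h.mul k
      have hbM : b ∈ M := by
        have := M.mul_mem (M.inv_mem (hM.2 ha)) (e ▸ k.2 : a * b ∈ M)
        simpa using this
      exact ⟨(⟨a, ha⟩, ⟨b, hb, hbM⟩), Subtype.ext e.symm⟩
    have hle' := Nat.card_le_card_of_surjective f hf
    rw [Nat.card_prod] at hle'
    have e1 : Nat.card ↥(B ⊓ M) * (B ⊓ M).relIndex M = Nat.card M := by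
      have := relIndex_mul_relIndex (⊥ : Subgroup G) (B ⊓ M) M bot_le inf_le_right
      rwa [relIndex_bot_left, relIndex_bot_left] at this
    have hAdvd : Nat.card A ∣ (B ⊓ M).relIndex M :=
      ((h.cop.coprime_dvd_right (card_dvd_of_le inf_le_left)).dvd_mul_left).1
        (e1 ▸ card_dvd_of_le hM.2)
    have hge : (B ⊓ M).relIndex M ≤ Nat.card A := by
      refine Nat.le_of_mul_le_mul_left ?_ (Nat.card_pos (α := ↥(B ⊓ M)))
      rw [e1, mul_comm]; exact hle'
    have heq : (B ⊓ M).relIndex M = Nat.card A := le_antisymm hge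
      (Nat.le_of_dvd (Nat.pos_of_ne_zero (by
        intro e0; rw [e0, mul_zero] at e1; exact Nat.card_pos.ne e1)) hAdvd)
    rw [heq] at hd
    exact h.not_dvd_B hq hd hqB

lemma pc_ne_bot_max (h : Hyp A B) {M : Subgroup G} (hM : IsMax A M) {s : ℕ} (hs : s.Prime)
    (hsA : s ∣ Nat.card A) : pc s M ≠ ⊥ := by
  haveI := Fact.mk hs
  intro hb
  obtain ⟨z, hz, ho⟩ := h.exists_center_order hs hsA
  have hzf : z ∈ fit M := mem_fit (h.solvable_max hM) (hM.2 hz.1) fun p hp u hu =>
    commute_ZC hz (h.pc_le_A hM hp hu)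
  have h3 := mem_pc_of_mem_fit (p := s) hzf ⟨1, by rw [pow_one]; exact ho⟩
  rw [hb, mem_bot] at h3
  rw [h3, orderOf_one] at ho
  exact hs.ne_one ho.symm

/-- `A` is normal in its maximal subgroup. -/
theorem max_le_normalizer (h : Hyp A B) {M : Subgroup G} (hM : IsMax A M) :
    M ≤ normalizer (A : Set G) := by
  suffices hA : A = fit M by
    intro m hm
    rw [hA]
    exact mem_normalizer_fintype fun x hx => conj_mem_fit hm hx
  refine le_antisymm (le_of_forall_ppow fun t ht a ha hao => ?_) (h.fit_le_A hM)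
  haveI := Fact.mk ht
  obtain ⟨r, hr, hrA, hrt⟩ := h.exists_prime_ne t
  haveI := Fact.mk hr
  set C := M ⊓ centralizer (pc r M : Set G) with hC
  have hCn : ((C.subgroupOf M)).Normal := by
    refine ⟨fun x hx m => ⟨(m * x * m⁻¹).2, mem_centralizer_iff.2 fun u hu => ?_⟩⟩
    have := mem_centralizer_iff.1 hx.2 _ (conj_mem_pc (M.inv_mem m.2) hu)
    show u * ((m : G) * x * (m : G)⁻¹) = (m : G) * x * (m : G)⁻¹ * u
    calc u * ((m : G) * x * (m : G)⁻¹) = (m : G) * (((m : G)⁻¹ * u * (m : G)⁻¹⁻¹) * x) * (m : G)⁻¹ := by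
          group
      _ = (m : G) * ((x : G) * ((m : G)⁻¹ * u * (m : G)⁻¹⁻¹)) * (m : G)⁻¹ := by
          show _ = _
          rw [show ((m : G)⁻¹ * u * (m : G)⁻¹⁻¹) * (x : G) = (x : G) * ((m : G)⁻¹ * u * (m : G)⁻¹⁻¹) from this]
      _ = _ := by group
  have hpi : PiA A C := by
    intro q hq hd
    refine (h.dvd_or hq hd).resolve_right fun hqB => ?_
    haveI := Fact.mk hq
    obtain ⟨x, hx⟩ := exists_prime_orderOf_dvd_card' (G := C) q hd
    rw [← Subgroup.orderOf_coe] at hx
    obtain ⟨m, hm, hmx⟩ := h.exists_conj_mem_B hM hq hqB x.2.1 ⟨1, by rw [pow_one]; exact hx⟩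
    have h1 := h.centralizer_inf_max_eq_bot hM hr (h.pc_ne_bot_max hM hr hrA) hmx (fun u hu => by
      have := mem_centralizer_iff.1 x.2.2 _ (conj_mem_pc hm hu)
      calc u * (m⁻¹ * x * m) = m⁻¹ * ((m * u * m⁻¹) * x) * m := by group
        _ = m⁻¹ * (x * (m * u * m⁻¹)) * m := by rw [this]
        _ = _ := by group)
    have h2 : (x : G) = 1 := by
      calc (x : G) = m * (m⁻¹ * x * m) * m⁻¹ := by group
        _ = 1 := by rw [h1]; group
    rw [h2, orderOf_one] at hx
    exact hq.ne_one hx.symm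
  haveI : Group.IsNilpotent C := h.nilpotent_of_piA hpi
  haveI : (C.subgroupOf M).Normal := hCn
  haveI : Group.IsNilpotent (C.subgroupOf M) :=
    Group.nilpotent_of_mulEquiv (subgroupOfEquivOfLe (inf_le_left : C ≤ M)).symm
  have haC : a ∈ C := by
    refine ⟨hM.2 ha, mem_centralizer_iff.2 fun u hu => ?_⟩
    obtain ⟨i, hi⟩ := IsPGroup.iff_orderOf.1 (isPGroup_pc r M) ⟨u, hu⟩
    rw [Subgroup.orderOf_mk] at hi
    exact (h.commute_cj (x := 1) hr ht hrt (by rw [cj_one]; exact h.pc_le_A hM hr hu)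
      (by rwa [cj_one]) ⟨i, hi⟩ hao).eq
  exact ⟨⟨a, hM.2 ha⟩, Cfsg.Lib.Components.le_fitting (G := M) (N := C.subgroupOf M) inferInstance
    (show (⟨a, hM.2 ha⟩ : M) ∈ C.subgroupOf M from haC), rfl⟩

/-- The `A`-part of the centralizer of an element of `B ⊓ M`. -/
theorem centralizer_factor (h : Hyp A B) {M : Subgroup G} (hM : IsMax A M) {b : G}
    (hb : b ∈ B ⊓ M) {a l : G} (ha : a ∈ A) (hl : l ∈ B)
    (hal : a * l ∈ centralizer ({b} : Set G)) : a ∈ centralizer ({b} : Set G) := by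
  have h1 : a * l * b = b * (a * l) := mem_centralizer_singleton_iff.1 hal
  have hn := mem_normalizer_iff.1 (h.max_le_normalizer hM hb.2) a
  -- `a b a⁻¹ b⁻¹` lies in both factors
  have hA : a⁻¹ * (b * a * b⁻¹) ∈ A := A.mul_mem (A.inv_mem ha) (hn.1 ha)
  have hB : a⁻¹ * (b * a * b⁻¹) ∈ B := by
    have e : a⁻¹ * (b * a * b⁻¹) = l * b * l⁻¹ * b⁻¹ := by
      calc a⁻¹ * (b * a * b⁻¹) = a⁻¹ * (b * (a * l)) * l⁻¹ * b⁻¹ := by group
        _ = a⁻¹ * (a * l * b) * l⁻¹ * b⁻¹ := by rw [h1]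
        _ = _ := by group
    rw [e]
    exact B.mul_mem (B.mul_mem (B.mul_mem hl hb.1) (B.inv_mem hl)) (B.inv_mem hb.1)
  have h2 : a⁻¹ * (b * a * b⁻¹) = 1 := mem_bot.1 (h.inf_eq_bot ▸ ⟨hA, hB⟩)
  rw [inv_mul_eq_one] at h2
  refine mem_centralizer_singleton_iff.2 ?_
  calc a * b = (b * a * b⁻¹) * b := by rw [← h2]
    _ = b * a := by group

/-- The centralizer in `A` of a nontrivial element of `B ⊓ M` lies in the maximal subgroup
containing `B`. -/
theorem centralizer_le_other (h : Hyp A B) {M L : Subgroup G} (hM : IsMax A M) (hL : IsMax B L)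
    {b : G} (hb : b ∈ B ⊓ M) (hb1 : b ≠ 1) {a : G} (ha : a ∈ A) (hab : a * b = b * a) :
    a ∈ L := by
  set D := centralizer ({b} : Set G) with hD
  have hDt : D ≠ ⊤ := h.centralizer_ne_top hb1
  have hsol : Group.IsSolvable D := h.solvable_of_factor hDt fun a' ha' l hl hal =>
    h.centralizer_factor hM hb ha' hl hal
  obtain ⟨q, hq, hqB, -⟩ := h.symm.exists_prime_ne 0
  obtain ⟨y, hy, ho⟩ := h.symm.exists_center_order hq hqB
  have hyD : y ∈ D := mem_centralizer_singleton_iff.2 (commute_ZC hy hb.1).symm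
  refine h.symm.mem_max_of_commute_conj hL hq hqB hy ho (commute_conj_of_central hsol hyD
    (fun p hp u hu => ?_) (mem_centralizer_singleton_iff.2 hab))
  haveI := Fact.mk hp
  obtain ⟨n, hn⟩ := IsPGroup.iff_card.1 (isPGroup_pc p D)
  rcases n with _ | n
  · rw [(Subgroup.card_eq_one (H := pc p D)).1 (by simpa using hn), mem_bot] at hu
    rw [hu, one_mul, mul_one]
  have hd : p ∣ Nat.card ↥(pc p D) := hn ▸ dvd_pow_self p n.succ_ne_zero
  rcases h.dvd_or hp hd with hpA | hpB
  · exfalso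
    refine h.no_invariant (Q := zpowers y) (zpowers_le.2 hy.1) (h.zpowers_normalized hy)
      (fun e => hq.ne_one (by rw [← ho, zpowers_eq_bot.1 e, orderOf_one]))
      (h.piA_of_pgroup (isPGroup_pc p D) hpA) (fun e => ?_)
      (zpowers_le.2 (le_normalizer_pc p D hyD))
    rw [e, card_bot, Nat.dvd_one] at hd
    exact hp.ne_one hd
  · refine commute_ZC hy ?_
    have hB' : pc p D ≤ B ⊓ D := by
      refine pc_le_of_relIndex inf_le_right fun hdv => ?_
      let f : ↥(A ⊓ D) × ↥(B ⊓ D) → D := fun x => ⟨(x.1 : G) * x.2, D.mul_mem x.1.2.2 x.2.2.2⟩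
      have hf : Function.Bijective f := by
        refine ⟨fun x x' e => ?_, fun k => ?_⟩
        · obtain ⟨e1, e2⟩ := h.eq_of_mul_eq x.1.2.1 x'.1.2.1 x.2.2.1 x'.2.2.1
            (congrArg Subtype.val e)
          exact Prod.ext (Subtype.ext e1) (Subtype.ext e2)
        · obtain ⟨a', ha', l, hl, e⟩ := h.mul k
          have haD : a' ∈ D := h.centralizer_factor hM hb ha' hl (e ▸ k.2)
          have hlD : l ∈ D := by
            have := D.mul_mem (D.inv_mem haD) (e ▸ k.2 : a' * l ∈ D)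
            simpa using this
          exact ⟨(⟨a', ha', haD⟩, ⟨l, hl, hlD⟩), Subtype.ext e.symm⟩
      have hc := Nat.card_eq_of_bijective f hf
      rw [Nat.card_prod] at hc
      have e1 : Nat.card ↥(B ⊓ D) * (B ⊓ D).relIndex D = Nat.card D := by
        have := relIndex_mul_relIndex (⊥ : Subgroup G) (B ⊓ D) D bot_le inf_le_right
        rwa [relIndex_bot_left, relIndex_bot_left] at this
      have e2 : (B ⊓ D).relIndex D = Nat.card ↥(A ⊓ D) :=
        Nat.eq_of_mul_eq_mul_left (Nat.card_pos (α := ↥(B ⊓ D))) (by rw [e1, ← hc, mul_comm])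
      exact h.not_dvd_B hp ((e2 ▸ hdv).trans (card_dvd_of_le inf_le_left)) hpB
    exact (hB' hu).1

/-- The centralizers of the elements of prime order of `A` lie in its maximal subgroup. -/
theorem centralizer_le_max (h : Hyp A B) {M : Subgroup G} (hM : IsMax A M) {a : G}
    {r : ℕ} (hr : r.Prime) (ha : a ∈ A) (hao : orderOf a = r) :
    centralizer ({a} : Set G) ≤ M := by
  obtain ⟨L, hL⟩ := h.symm.exists_isMax
  have ha1 : a ≠ 1 := fun e => hr.ne_one (by rw [← hao, e, orderOf_one])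
  set K := centralizer ({a} : Set G) with hK
  have hKt : K ≠ ⊤ := h.centralizer_ne_top ha1
  by_cases hB : ∃ q : ℕ, q.Prime ∧ q ∣ Nat.card B ∧ q ∣ Nat.card ↥(K ⊓ M)
  · -- some conjugate of `a` commutes with an element of `B ⊓ M`
    obtain ⟨q, hq, hqB, hd⟩ := hB
    haveI := Fact.mk hq
    obtain ⟨x, hx⟩ := exists_prime_orderOf_dvd_card' (G := ↥(K ⊓ M)) q hd
    rw [← Subgroup.orderOf_coe] at hx
    obtain ⟨m, hm, hmx⟩ := h.exists_conj_mem_B hM hq hqB x.2.2 ⟨1, by rw [pow_one]; exact hx⟩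
    set b := m⁻¹ * x * m with hb
    set a' := m⁻¹ * a * m with ha'
    have hb1 : b ≠ 1 := fun e => hq.ne_one (by
      rw [← hx, show (x : G) = m * b * m⁻¹ by rw [hb]; group, e, mul_one, mul_inv_cancel, orderOf_one])
    have ha'A : a' ∈ A := by
      have := (mem_normalizer_iff.1 (h.max_le_normalizer hM (M.inv_mem hm)) a).1 ha
      simpa [ha'] using this
    have hab : a' * b = b * a' := by
      have hxa : a * (x : G) = x * a := (mem_centralizer_singleton_iff.1 x.2.1).symm
      calc a' * b = m⁻¹ * (a * x) * m := by rw [ha', hb]; group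
        _ = m⁻¹ * ((x : G) * a) * m := by rw [hxa]
        _ = b * a' := by rw [ha', hb]; group
    have haL := h.centralizer_le_other hM hL hmx hb1 ha'A hab
    have ha'1 : a' ≠ 1 := fun e => ha1 (by
      rw [show a = m * a' * m⁻¹ by rw [ha']; group, e, mul_one, mul_inv_cancel])
    -- the centralizer of `a'` factorises inside `M`
    intro g hg
    have hg' : m⁻¹ * g * m ∈ centralizer ({a'} : Set G) := by
      refine mem_centralizer_singleton_iff.2 ?_
      have hga : g * a = a * g := mem_centralizer_singleton_iff.1 hg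
      calc m⁻¹ * g * m * a' = m⁻¹ * (g * a) * m := by rw [ha']; group
        _ = m⁻¹ * (a * g) * m := by rw [hga]
        _ = a' * (m⁻¹ * g * m) := by rw [ha']; group
    obtain ⟨l, hl, c, hc, e⟩ := h.symm.mul (m⁻¹ * g * m)
    have hlC : l ∈ centralizer ({a'} : Set G) :=
      h.symm.centralizer_factor hL ⟨ha'A, haL⟩ hl hc (e ▸ hg')
    have hlM : l ∈ M :=
      h.symm.centralizer_le_other hL hM ⟨ha'A, haL⟩ ha'1 hl (mem_centralizer_singleton_iff.1 hlC)
    have hgM : m⁻¹ * g * m ∈ M := e ▸ M.mul_mem hlM (hM.2 hc)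
    have := M.mul_mem (M.mul_mem hm hgM) (M.inv_mem hm)
    simpa [mul_assoc] using this
  -- otherwise `K ⊓ M` is nilpotent
  push Not at hB
  have hKM : PiA A (K ⊓ M) := fun p hp hd => (h.dvd_or hp hd).resolve_right fun hpB => hB p hp hpB hd
  obtain ⟨s, hs, hsA, hsr⟩ := h.exists_prime_ne r
  haveI := Fact.mk hs
  haveI := Fact.mk hr
  have hs2 : s ≠ 2 := fun e => h.symm.odd_B (e ▸ hsA)
  haveI := h.nilA
  obtain ⟨P⟩ : Nonempty (Sylow s A) := inferInstance
  have hPn : (P : Subgroup A).Normal := by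
    have h1 := (Group.isNilpotent_of_finite_tfae (G := A)).out 0 3
    exact h1.1 inferInstance s ‹_› P
  set S := (P : Subgroup A).map A.subtype with hS
  have hSA : S ≤ A := map_subtype_le _
  have hSp : IsPGroup s S := P.2.map _
  have hAS : A ≤ normalizer (S : Set G) := fun x hx => mem_normalizer_fintype fun y hy => by
    obtain ⟨y', hy', rfl⟩ := hy
    exact ⟨_, hPn.conj_mem y' hy' ⟨x, hx⟩, rfl⟩
  have hSne : S ≠ ⊥ := fun e =>
    P.ne_bot_of_dvd_card hsA ((map_eq_bot_iff_of_injective _ A.subtype_injective).1 e)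
  have hSi : ¬ s ∣ S.index := by
    rw [← relIndex_mul_index hSA]
    refine hs.not_dvd_mul ?_ (fun hd => h.not_dvd_B hs hsA (h.index_A ▸ hd))
    rw [relIndex, hS, subgroupOf, comap_map_eq_self_of_injective A.subtype_injective]
    exact P.not_dvd_index
  have hSK : S ≤ K := fun x hx => by
    obtain ⟨i, hi⟩ := IsPGroup.iff_orderOf.1 hSp ⟨x, hx⟩
    rw [Subgroup.orderOf_mk] at hi
    exact mem_centralizer_singleton_iff.2 (h.commute_cj (x := 1) hs hr hsr
      (by rw [cj_one]; exact hSA hx) (by rwa [cj_one]) ⟨i, hi⟩ ⟨1, by rw [pow_one]; exact hao⟩).eq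
  let S' : Sylow s K := (hSp.comap_subtype (K := K)).toSylow (fun hd => hSi (hd.trans (by
    show S.relIndex K ∣ S.index
    rw [← relIndex_mul_index hSK]
    exact dvd_mul_right _ _)))
  have hS'map : (S' : Subgroup K).map K.subtype = S := map_subgroupOf_eq_of_le hSK
  have hcompl : Cfsg.HasNormalPComplement s K := by
    refine Cfsg.Lib.Thompson.hasNormalPComplement_of_thompson hs2 _ K rfl S' ?_
    have key : ∀ N : Subgroup K, N.map K.subtype ≤ M → Cfsg.HasNormalPComplement s N := by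
      intro N hN
      have hle : N.map K.subtype ≤ K ⊓ M := le_inf (map_subtype_le _) hN
      haveI : Group.IsNilpotent N := by
        haveI : Group.IsNilpotent ↥(N.map K.subtype) :=
          h.nilpotent_of_piA fun p hp hd => hKM p hp (hd.trans (card_dvd_of_le hle))
        exact Group.nilpotent_of_mulEquiv (equivMapOfInjective N K.subtype K.subtype_injective).symm
      exact Cfsg.Lib.Splitting.hasNormalPComplement_of_nilpotent s
    refine ⟨key _ ?_, key _ ?_⟩
    · rintro _ ⟨k, hk, rfl⟩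
      set J := Cfsg.thompsonSubgroupOf s S with hJ
      have hJA : J ≤ A := (Cfsg.Lib.Thompson.thompsonSubgroupOf_le S).trans hSA
      have hNJ : normalizer (J : Set G) ≤ M := h.le_max hM
        (h.normalizer_ne_top (Cfsg.Lib.Thompson.thompsonSubgroupOf_ne_bot hSp hSne)
          fun e => h.A_ne_top (top_unique (e ▸ hJA)))
        (hAS.trans (Cfsg.Lib.Thompson.normalizer_le_normalizer_thompson S))
      refine hNJ ?_
      have hmap := Cfsg.Lib.Thompson.map_thompsonSubgroupOf (p := s) (f := K.subtype)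
        (P := (S' : Subgroup K)) K.subtype_injective.injOn
      rw [hS'map] at hmap
      rw [hJ, ← hmap]
      refine mem_normalizer_fintype ?_
      rintro _ ⟨u, hu, rfl⟩
      exact ⟨_, (mem_normalizer_iff.1 hk u).1 hu, rfl⟩
    · rintro _ ⟨k, hk, rfl⟩
      obtain ⟨z, hz, ho⟩ := h.exists_center_order hs hsA
      have hzS : z ∈ S := by
        obtain ⟨Q', hQ'⟩ := (IsPGroup.of_card (p := s) (n := 1)
          ((Nat.card_zpowers (⟨z, hz.1⟩ : A)).trans (by
            rw [Subgroup.orderOf_mk, pow_one, ho]))).exists_le_sylow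
        haveI := P.unique_of_normal hPn
        rw [Subsingleton.elim Q' P] at hQ'
        exact ⟨_, hQ' (mem_zpowers _), rfl⟩
      have hzc : (⟨z, hSK hzS⟩ : K) ∈
          (S' : Subgroup K) ⊓ centralizer ((S' : Subgroup K) : Set K) :=
        ⟨hzS, mem_centralizer_iff.2 fun v hv => Subtype.ext (commute_ZC hz (hSA hv))⟩
      exact h.le_max hM (h.centralizer_ne_top fun e => hs.ne_one (by rw [← ho, e, orderOf_one]))
        (fun x hx => mem_centralizer_singleton_iff.2 (commute_ZC hz hx))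
        (mem_centralizer_singleton_iff.2
          (congrArg Subtype.val (mem_centralizer_iff.1 hk _ hzc)).symm)
  -- hence `K` has the type of `A`
  have hKpi : PiA A K := by
    intro q hq hd
    refine (h.dvd_or hq hd).resolve_right fun hqB => ?_
    haveI := Fact.mk hq
    obtain ⟨P', N, hNn, hNP⟩ := hcompl
    have hqs : q ≠ s := fun e => h.not_dvd_B hs hsA (e ▸ hqB)
    obtain ⟨n, hn⟩ := IsPGroup.iff_card.1 P'.2
    have hcardN : Nat.card N * s ^ n = Nat.card K := hn ▸ hNP.card_mul_card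
    have hqN : q ∣ Nat.card N := by
      rcases hq.dvd_mul.1 (hcardN.symm ▸ hd) with h3 | h3
      · exact h3
      · exact absurd ((Nat.prime_dvd_prime_iff_eq hq hs).1 (hq.dvd_of_dvd_pow h3)) hqs
    set N' := N.map K.subtype with hN'
    have hN'n : S ≤ normalizer (N' : Set G) := by
      intro x hx
      refine mem_normalizer_fintype ?_
      rintro _ ⟨u, hu, rfl⟩
      exact ⟨_, hNn.conj_mem u hu ⟨x, hSK hx⟩, rfl⟩
    have hNs : ¬ s ∣ Nat.card N' := by
      rw [hN', card_map_of_injective K.subtype_injective]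
      intro hsd
      refine P'.not_dvd_index ?_
      have : (P' : Subgroup K).index = Nat.card N := by
        apply Nat.eq_of_mul_eq_mul_left (Nat.card_pos (α := (P' : Subgroup K)))
        rw [card_mul_index, hn, mul_comm, hcardN]
      rwa [this]
    have hcop : (Nat.card S).Coprime (Nat.card N') := by
      obtain ⟨j, hj⟩ := IsPGroup.iff_card.1 hSp
      rw [hj]
      exact Nat.Coprime.pow_left _ ((Nat.Prime.coprime_iff_not_dvd hs).2 hNs)
    haveI : Group.IsNilpotent S := hSp.isNilpotent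
    obtain ⟨Q, hQ⟩ := Cfsg.Lib.Coprime.exists_invariant_sylow hN'n hcop (Or.inl inferInstance) q
    refine h.symm.no_invariant hSA hAS hSne
      (h.symm.piA_of_pgroup (Q.2.map _) hqB) (fun e => ?_) hQ
    exact Q.ne_bot_of_dvd_card (by rw [hN', card_map_of_injective K.subtype_injective]; exact hqN)
      ((map_eq_bot_iff_of_injective _ N'.subtype_injective).1 e)
  obtain ⟨g, hg⟩ := h.dom hKpi
  refine hg.trans (cj_le_of_mem ?_ hM.2)
  refine h.mem_max_of_sylow hM hs hsA fun x hx hxo => ?_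
  -- `x` lies in the normal Sylow subgroup, which `g` normalizes
  have hxS : x ∈ S := by
    obtain ⟨i, hi⟩ := hxo
    obtain ⟨Q', hQ'⟩ := (IsPGroup.of_card (p := s)
      ((Nat.card_zpowers (⟨x, hx⟩ : A)).trans (by rw [Subgroup.orderOf_mk, hi]))).exists_le_sylow
    haveI := P.unique_of_normal hPn
    rw [Subsingleton.elim Q' P] at hQ'
    exact ⟨_, hQ' (mem_zpowers _), rfl⟩
  have heq : S = cj g S := by
    refine eq_of_le_of_card_ge (fun v hv => ?_) (card_cj g S).le
    obtain ⟨j, hj⟩ := IsPGroup.iff_orderOf.1 hSp ⟨v, hv⟩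
    rw [Subgroup.orderOf_mk] at hj
    obtain ⟨w, hw, hwv⟩ := hg (hSK hv)
    have hwo : orderOf w = s ^ j := by
      rw [← hj, ← hwv]
      exact (orderOf_injective (MulAut.conj g).toMonoidHom (MulAut.conj g).injective w).symm
    refine ⟨w, ?_, hwv⟩
    obtain ⟨Q', hQ'⟩ := (IsPGroup.of_card (p := s)
      ((Nat.card_zpowers (⟨w, hw⟩ : A)).trans (by rw [Subgroup.orderOf_mk, hwo]))).exists_le_sylow
    haveI := P.unique_of_normal hPn
    rw [Subsingleton.elim Q' P] at hQ'
    exact ⟨_, hQ' (mem_zpowers _), rfl⟩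
  exact hM.2 (hSA (heq.ge (conj_mem_cj g hxS)))

theorem card_A_le (h : Hyp A B) : Nat.card A ≤ Nat.card B := by
  obtain ⟨M, hM⟩ := h.exists_isMax
  obtain ⟨g, hg⟩ : ∃ g, g ∉ M := by
    by_contra hc
    push Not at hc
    exact hM.1.1 (eq_top_iff.2 fun x _ => hc x)
  have hdisj : A ⊓ cj g A = ⊥ := by
    by_contra hne
    obtain ⟨r, hr, hrd⟩ := Nat.exists_prime_and_dvd
      (show Nat.card ↥(A ⊓ cj g A) ≠ 1 from fun e => hne (Subgroup.card_eq_one.1 e))
    haveI := Fact.mk hr
    obtain ⟨a, hao⟩ := exists_prime_orderOf_dvd_card' (G := ↥(A ⊓ cj g A)) r hrd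
    rw [← Subgroup.orderOf_coe] at hao
    obtain ⟨t, ht, htA, htr⟩ := h.exists_prime_ne r
    refine hg (h.mem_max_of_sylow hM ht htA fun x hx hxo => ?_)
    refine h.centralizer_le_max hM hr a.2.1 hao (mem_centralizer_singleton_iff.2 ?_)
    obtain ⟨i, hi⟩ := hxo
    exact (h.commute_cj ht hr htr (conj_mem_cj g hx) a.2.2
      ⟨i, (orderOf_injective (MulAut.conj g).toMonoidHom (MulAut.conj g).injective x).trans hi⟩
      ⟨1, by rw [pow_one]; exact hao⟩).eq
  have hle := Nat.card_le_card_of_injective _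
    (mul_injective_of_disjoint (H₁ := A) (H₂ := cj g A) (disjoint_iff.2 hdisj))
  rw [Nat.card_prod, card_cj, ← h.card_eq] at hle
  exact Nat.le_of_mul_le_mul_left hle Nat.card_pos

theorem false (h : Hyp A B) : False := by
  have heq : Nat.card A = Nat.card B := le_antisymm h.card_A_le h.symm.card_A_le
  refine h.A_ne_bot (Subgroup.card_eq_one.1 ?_)
  have := h.cop
  rwa [← heq, Nat.coprime_self] at this

end Hyp

end Cfsg.Lib.SolvStruct.KW
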