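/-
The theorem of Kegel and Wielandt: a product of two nilpotent subgroups is solvable.
-/
import Cfsg.Agent.SolvStruct.KegelWielandt.Coprime
import Cfsg.Agent.SolvStruct.Products
import Cfsg.Agent.Transfer.FittingPower

set_option autoImplicit false
set_option linter.style.haveILetI false
set_option linter.unusedSectionVars false

namespace Cfsg.Lib.SolvStruct.KW

open Subgroup
open scoped Pointwise commutatorElement

universe u

lemma nilpotent_map {G H : Type u} [Group G] [Group H] (f : G →* H) {A : Subgroup G}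
    (hA : Group.IsNilpotent A) : Group.IsNilpotent ↥(A.map f) := by
  haveI := hA
  exact Group.nilpotent_of_surjective (f.subgroupMap A) (f.subgroupMap_surjective A)

lemma factor_map {G H : Type u} [Group G] [Group H] (f : G →* H) (hf : Function.Surjective f)
    {A B : Subgroup G} (hAB : ∀ g : G, ∃ a ∈ A, ∃ b ∈ B, g = a * b) :
    ∀ g : H, ∃ a ∈ A.map f, ∃ b ∈ B.map f, g = a * b := by
  intro g
  obtain ⟨x, rfl⟩ := hf g
  obtain ⟨a, ha, b, hb, rfl⟩ := hAB x
  exact ⟨f a, mem_map_of_mem f ha, f b, mem_map_of_mem f hb, map_mul f a b⟩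

/-- **Wielandt**: a product of nilpotent subgroups of coprime orders is solvable. -/
theorem solvable_of_coprime : ∀ (n : ℕ) (G : Type u) [Group G] [Finite G], Nat.card G = n →
    ∀ A B : Subgroup G, Group.IsNilpotent A → Group.IsNilpotent B →
      (Nat.card A).Coprime (Nat.card B) → Nat.card A * Nat.card B = Nat.card G →
        Group.IsSolvable G := by
  intro n
  induction n using Nat.strong_induction_on with
  | _ n ih =>
  intro G _ _ hn A B hA hB hcop hcard
  subst hn
  by_cases hN : ∃ N : Subgroup G, N.Normal ∧ N ≠ ⊥ ∧ N ≠ ⊤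
  · obtain ⟨N, hNn, hNb, hNt⟩ := hN
    haveI := hNn
    have hAi : A.index = Nat.card B := Nat.eq_of_mul_eq_mul_left (Nat.card_pos (α := A))
      (by rw [card_mul_index, hcard])
    have hBi : B.index = Nat.card A := Nat.eq_of_mul_eq_mul_left (Nat.card_pos (α := B))
      (by rw [card_mul_index, mul_comm, hcard])
    have hrel : ∀ C : Subgroup G, C.relIndex N ∣ C.index := fun C => by
      have h1 : C.relIndex N ∣ C.relIndex (C ⊔ N) := by
        rw [Cfsg.Lib.Transfer.relIndex_eq_relIndex_sup_of_normal C N]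
      exact h1.trans ((relIndex_mul_index (le_sup_left : C ≤ C ⊔ N)) ▸ dvd_mul_right _ _)
    have heq : ∀ C : Subgroup G, Nat.card ↥(C ⊓ N) * C.relIndex N = Nat.card N := fun C => by
      have := relIndex_mul_relIndex (⊥ : Subgroup G) (C ⊓ N) N bot_le inf_le_right
      rwa [relIndex_bot_left, relIndex_bot_left, inf_relIndex_right] at this
    have hcopN : (Nat.card ↥(A ⊓ N)).Coprime (Nat.card ↥(B ⊓ N)) :=
      (hcop.coprime_dvd_left (card_dvd_of_le inf_le_left)).coprime_dvd_right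
        (card_dvd_of_le inf_le_left)
    have hNcard : Nat.card ↥(A ⊓ N) * Nat.card ↥(B ⊓ N) = Nat.card N := by
      refine Nat.dvd_antisymm (hcopN.mul_dvd_of_dvd_of_dvd (card_dvd_of_le inf_le_right)
        (card_dvd_of_le inf_le_right)) ?_
      have h1 : A.relIndex N ∣ Nat.card B := hAi ▸ hrel A
      have h2 : Nat.card N ∣ Nat.card ↥(A ⊓ N) * Nat.card B := heq A ▸ Nat.mul_dvd_mul_left _ h1
      have h3 : Nat.card N ∣ Nat.card ↥(B ⊓ N) * Nat.card A :=
        heq B ▸ Nat.mul_dvd_mul_left _ (hBi ▸ hrel B)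
      have h4 : B.relIndex N ∣ Nat.card ↥(A ⊓ N) := by
        refine Nat.Coprime.dvd_of_dvd_mul_right ?_ ((Dvd.intro_left _ (heq B)).trans h2)
        exact (hcop.coprime_dvd_left (hBi ▸ hrel B))
      rw [← heq B, mul_comm (Nat.card ↥(A ⊓ N))]
      exact Nat.mul_dvd_mul_left _ h4
    have hlt : Nat.card N < Nat.card G := lt_of_le_of_ne
      (Nat.card_le_card_of_injective _ Subtype.val_injective) (fun e => hNt (eq_top_of_card_eq _ e))
    have hsN : Group.IsSolvable N := by
      haveI := hA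
      haveI := hB
      refine ih _ hlt N rfl ((A ⊓ N).subgroupOf N) ((B ⊓ N).subgroupOf N) ?_ ?_ ?_ ?_
      · haveI : Group.IsNilpotent ↥(A ⊓ N) :=
          Group.nilpotent_of_mulEquiv (subgroupOfEquivOfLe (inf_le_left : A ⊓ N ≤ A))
        exact Group.nilpotent_of_mulEquiv (subgroupOfEquivOfLe (inf_le_right : A ⊓ N ≤ N)).symm
      · haveI : Group.IsNilpotent ↥(B ⊓ N) :=
          Group.nilpotent_of_mulEquiv (subgroupOfEquivOfLe (inf_le_left : B ⊓ N ≤ B))
        exact Group.nilpotent_of_mulEquiv (subgroupOfEquivOfLe (inf_le_right : B ⊓ N ≤ N)).symm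
      · rwa [Nat.card_congr (subgroupOfEquivOfLe (inf_le_right : A ⊓ N ≤ N)).toEquiv,
          Nat.card_congr (subgroupOfEquivOfLe (inf_le_right : B ⊓ N ≤ N)).toEquiv]
      · rwa [Nat.card_congr (subgroupOfEquivOfLe (inf_le_right : A ⊓ N ≤ N)).toEquiv,
          Nat.card_congr (subgroupOfEquivOfLe (inf_le_right : B ⊓ N ≤ N)).toEquiv]
    have himg : ∀ C : Subgroup G,
        Nat.card ↥(C.map (QuotientGroup.mk' N)) * Nat.card ↥(C ⊓ N) = Nat.card C := fun C => by
      have := relIndex_mul_relIndex (⊥ : Subgroup G) (C ⊓ N) C bot_le inf_le_left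
      rw [relIndex_bot_left, relIndex_bot_left, inf_relIndex_left] at this
      rw [mul_comm]
      convert this using 2
      rw [← relIndex_ker, QuotientGroup.ker_mk']
    have hsQ : Group.IsSolvable (G ⧸ N) := by
      refine ih _ (Cfsg.Lib.Coprime.card_quotient_lt hNb) (G ⧸ N) rfl (A.map (QuotientGroup.mk' N))
        (B.map (QuotientGroup.mk' N)) (nilpotent_map _ hA) (nilpotent_map _ hB)
        ((hcop.coprime_dvd_left (Dvd.intro _ (himg A))).coprime_dvd_right (Dvd.intro _ (himg B))) ?_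
      apply Nat.eq_of_mul_eq_mul_right (Nat.card_pos (α := N))
      rw [← Subgroup.card_eq_card_quotient_mul_card_subgroup N, ← hNcard, ← hcard]
      conv_rhs => rw [← himg A, ← himg B]
      ring
    haveI := hsN
    haveI := hsQ
    exact Group.isSolvable_of_ker_le_range N.subtype (QuotientGroup.mk' N)
      (by rw [QuotientGroup.ker_mk', Subgroup.range_subtype])
  · push Not at hN
    rcases subsingleton_or_nontrivial G with hs | hs
    · exact Group.isSolvable_of_comm fun a b => Subsingleton.elim _ _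
    haveI : IsSimpleGroup G :=
      ⟨fun H hH => or_iff_not_imp_left.2 fun hb => hN H hH hb⟩
    by_contra hns
    refine Hyp.false (A := A) (B := B) ⟨inferInstance, hA, hB, hcop, hcard, hns, ?_⟩
    intro K hK A' B' hA' hB' hnA hnB hc hprod
    refine ih _ (lt_of_le_of_ne (Nat.card_le_card_of_injective _ Subtype.val_injective)
      (fun e => hK (eq_top_of_card_eq _ e))) K rfl (A'.subgroupOf K) (B'.subgroupOf K) ?_ ?_ ?_ ?_
    · haveI := hnA
      exact Group.nilpotent_of_mulEquiv (subgroupOfEquivOfLe hA').symm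
    · haveI := hnB
      exact Group.nilpotent_of_mulEquiv (subgroupOfEquivOfLe hB').symm
    · rwa [Nat.card_congr (subgroupOfEquivOfLe hA').toEquiv,
        Nat.card_congr (subgroupOfEquivOfLe hB').toEquiv]
    · rwa [Nat.card_congr (subgroupOfEquivOfLe hA').toEquiv,
        Nat.card_congr (subgroupOfEquivOfLe hB').toEquiv]

/-- `X Y ⊆ Y X`. -/
def Perm {G : Type u} [Group G] (X Y : Subgroup G) : Prop :=
  ∀ x ∈ X, ∀ y ∈ Y, ∃ y' ∈ Y, ∃ x' ∈ X, x * y = y' * x'

section
variable {G : Type u} [Group G] [Finite G]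

lemma setMul_comm_of_perm {X Y : Subgroup G} (h : Perm X Y) :
    (X : Set G) * (Y : Set G) = (Y : Set G) * (X : Set G) := by
  refine Set.eq_of_subset_of_ncard_le ?_ ?_ (Set.toFinite _)
  · rintro _ ⟨x, hx, y, hy, rfl⟩
    obtain ⟨y', hy', x', hx', e⟩ := h x hx y hy
    exact ⟨y', hy', x', hx', e.symm⟩
  · have h1 := Cfsg.Lib.SolvStruct.card_setMul_mul_card_inf X Y
    have h2 := Cfsg.Lib.SolvStruct.card_setMul_mul_card_inf Y X
    rw [inf_comm, mul_comm (Nat.card Y), ← h1] at h2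
    rw [← Nat.card_coe_set_eq, ← Nat.card_coe_set_eq]
    exact (Nat.eq_of_mul_eq_mul_right Nat.card_pos h2).le

lemma exists_pgroup_of_perm {p : ℕ} [hp : Fact p.Prime] {X Y : Subgroup G} (h : Perm X Y)
    (hX : IsPGroup p X) (hY : IsPGroup p Y) : ∃ S : Subgroup G, IsPGroup p S ∧ X ≤ S ∧ Y ≤ S := by
  have hcomm := setMul_comm_of_perm h
  have hassoc : ((X : Set G) * (Y : Set G)) * ((X : Set G) * (Y : Set G)) =
      (X : Set G) * (Y : Set G) := by
    calc ((X : Set G) * (Y : Set G)) * ((X : Set G) * (Y : Set G))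
        = (X : Set G) * ((Y : Set G) * (X : Set G)) * (Y : Set G) := by simp only [mul_assoc]
      _ = ((X : Set G) * (X : Set G)) * ((Y : Set G) * (Y : Set G)) := by
        rw [← hcomm]; simp only [mul_assoc]
      _ = _ := by rw [coe_mul_coe, coe_mul_coe]
  let S : Subgroup G :=
    { carrier := (X : Set G) * (Y : Set G)
      one_mem' := ⟨1, X.one_mem, 1, Y.one_mem, one_mul 1⟩
      mul_mem' := fun {a b} ha hb => hassoc ▸ Set.mul_mem_mul ha hb
      inv_mem' := by
        rintro _ ⟨x, hx, y, hy, rfl⟩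
        show (x * y)⁻¹ ∈ (X : Set G) * (Y : Set G)
        rw [hcomm, mul_inv_rev]
        exact ⟨_, Y.inv_mem hy, _, X.inv_mem hx, rfl⟩ }
  refine ⟨S, ?_, fun x hx => ⟨x, hx, 1, Y.one_mem, mul_one x⟩, fun y hy => ⟨1, X.one_mem, y, hy, one_mul y⟩⟩
  obtain ⟨i, hi⟩ := IsPGroup.iff_card.1 hX
  obtain ⟨j, hj⟩ := IsPGroup.iff_card.1 hY
  have hdvd : Nat.card S ∣ p ^ (i + j) := by
    rw [pow_add, ← hi, ← hj]
    exact Dvd.intro _ (Cfsg.Lib.SolvStruct.card_setMul_mul_card_inf X Y)
  obtain ⟨k, -, hk⟩ := (Nat.dvd_prime_pow hp.out).1 hdvd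
  exact IsPGroup.of_card hk

lemma perm_sup {X₁ X₂ Y : Subgroup G} (h1 : Perm X₁ Y) (h2 : Perm X₂ Y) : Perm (X₁ ⊔ X₂) Y := by
  intro x hx
  let T : Submonoid G :=
    { carrier := {x | x ∈ X₁ ⊔ X₂ ∧ ∀ y ∈ Y, ∃ y' ∈ Y, ∃ x' ∈ X₁ ⊔ X₂, x * y = y' * x'}
      one_mem' := ⟨one_mem _, fun y hy => ⟨y, hy, 1, one_mem _, by simp⟩⟩
      mul_mem' := by
        rintro a b ⟨ha, ha'⟩ ⟨hb, hb'⟩
        refine ⟨(X₁ ⊔ X₂).mul_mem ha hb, fun y hy => ?_⟩
        obtain ⟨y1, hy1, b', hb1, e1⟩ := hb' y hy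
        obtain ⟨y2, hy2, a', ha1, e2⟩ := ha' y1 hy1
        exact ⟨y2, hy2, a' * b', (X₁ ⊔ X₂).mul_mem ha1 hb1, by rw [mul_assoc, e1, ← mul_assoc, e2, mul_assoc]⟩ }
  have hle : ((X₁ : Set G) ∪ X₂) ⊆ T := by
    rintro v (hv | hv)
    · refine ⟨mem_sup_left hv, fun y hy => ?_⟩
      obtain ⟨y', hy', x', hx', e⟩ := h1 v hv y hy
      exact ⟨y', hy', x', mem_sup_left hx', e⟩
    · refine ⟨mem_sup_right hv, fun y hy => ?_⟩
      obtain ⟨y', hy', x', hx', e⟩ := h2 v hv y hy
      exact ⟨y', hy', x', mem_sup_right hx', e⟩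
  have hxT : x ∈ T := by
    rw [sup_eq_closure] at hx
    induction hx using closure_induction with
    | mem v hv => exact hle hv
    | one => exact T.one_mem
    | mul a b _ _ ha hb => exact T.mul_mem ha hb
    | inv a _ ha =>
      have : a⁻¹ = a ^ (orderOf a - 1) := by
        refine inv_eq_of_mul_eq_one_right ?_
        rw [← pow_succ', Nat.sub_add_cancel (orderOf_pos a), pow_orderOf_eq_one]
      exact this ▸ T.pow_mem ha _
  exact hxT.2

/-- Two `p`-subgroups, one permuting with all conjugates of the other: the normal closure of the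
second normalizes a `p`-subgroup containing the first. -/
theorem exists_normalized {p : ℕ} [Fact p.Prime] {X Y : Subgroup G} (hX : IsPGroup p X)
    (hY : IsPGroup p Y) (h : ∀ g : G, Perm X (cj g Y)) :
    ∃ X' : Subgroup G, X ≤ X' ∧ IsPGroup p X' ∧
      normalClosure (Y : Set G) ≤ normalizer (X' : Set G) := by
  obtain ⟨X', ⟨hXX', hX'p, hgood⟩, hmax⟩ := Set.exists_max_image
    {X' : Subgroup G | X ≤ X' ∧ IsPGroup p X' ∧ ∀ g : G, Perm X' (cj g Y)}
    (fun X' => Nat.card X') (Set.toFinite _) ⟨X, le_rfl, hX, h⟩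
  refine ⟨X', hXX', hX'p, (closure_le _).2 fun v hv => ?_⟩
  obtain ⟨y₀, hy₀, hcon⟩ := Group.mem_conjugatesOfSet_iff.1 hv
  obtain ⟨g, rfl⟩ := isConj_iff.1 hcon
  set y := g * y₀ * g⁻¹
  have hy : y ∈ cj g Y := conj_mem_cj g hy₀
  obtain ⟨S, hS, hXS, hYS⟩ := exists_pgroup_of_perm (hgood g) hX'p (hY.map _)
  have hle : cj y X' ≤ S := cj_le_of_mem (hYS hy) hXS
  have hperm : ∀ k : G, Perm (cj y X') (cj k Y) := by
    intro k u hu w hw
    obtain ⟨u', hu', rfl⟩ := hu
    have hw' : y⁻¹ * w * y ∈ cj (y⁻¹ * k) Y := by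
      obtain ⟨w', hw', rfl⟩ := hw
      refine mem_cj.2 ?_
      simp only [MulEquiv.coe_toMonoidHom, MulAut.conj_apply]
      rw [show (y⁻¹ * k)⁻¹ * (y⁻¹ * (k * w' * k⁻¹) * y) * (y⁻¹ * k) = w' by group]
      exact hw'
    obtain ⟨w1, hw1, u1, hu1, e⟩ := hgood (y⁻¹ * k) u' hu' _ hw'
    refine ⟨y * w1 * y⁻¹, ?_, _, mem_map_of_mem _ hu1, ?_⟩
    · obtain ⟨w2, hw2, rfl⟩ := hw1
      refine mem_cj.2 ?_
      simp only [MulEquiv.coe_toMonoidHom, MulAut.conj_apply]
      rw [show k⁻¹ * (y * (y⁻¹ * k * w2 * (y⁻¹ * k)⁻¹) * y⁻¹) * k = w2 by group]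
      exact hw2
    · simp only [MulEquiv.coe_toMonoidHom, MulAut.conj_apply]
      calc y * u' * y⁻¹ * w = y * (u' * (y⁻¹ * w * y)) * y⁻¹ := by group
        _ = y * (w1 * u1) * y⁻¹ := by rw [e]
        _ = _ := by group
  have hmem : (X' ⊔ cj y X') ∈
      {X' : Subgroup G | X ≤ X' ∧ IsPGroup p X' ∧ ∀ g : G, Perm X' (cj g Y)} :=
    ⟨hXX'.trans le_sup_left, hS.to_le (sup_le hXS hle), fun k => perm_sup (hgood k) (hperm k)⟩
  have heq : X' = X' ⊔ cj y X' := eq_of_le_of_card_ge le_sup_left (hmax _ hmem)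
  have hyle : cj y X' ≤ X' := le_sup_right.trans heq.ge
  exact Cfsg.Lib.Transfer.map_conj_eq_self_iff.1 (eq_of_le_of_card_ge hyle (card_cj y X').ge)

end

/-- **Kegel–Wielandt**: a product of two nilpotent subgroups is solvable. -/
theorem solvable_of_nilpotent_factors : ∀ (n : ℕ) (G : Type u) [Group G] [Finite G],
    Nat.card G = n → ∀ A B : Subgroup G, Group.IsNilpotent A → Group.IsNilpotent B →
      (∀ g : G, ∃ a ∈ A, ∃ b ∈ B, g = a * b) → Group.IsSolvable G := by
  intro n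
  induction n using Nat.strong_induction_on with
  | _ n ih =>
  intro G _ _ hn A B hA hB hAB
  subst hn
  have hquot : ∀ N : Subgroup G, ∀ _ : N.Normal, N ≠ ⊥ → Group.IsSolvable (G ⧸ N) := by
    intro N hNn hNb
    haveI := hNn
    exact ih _ (Cfsg.Lib.Coprime.card_quotient_lt hNb) (G ⧸ N) rfl _ _
      (nilpotent_map (QuotientGroup.mk' N) hA) (nilpotent_map (QuotientGroup.mk' N) hB)
      (factor_map _ (QuotientGroup.mk'_surjective N) hAB)
  by_cases hsolN : ∃ N : Subgroup G, N.Normal ∧ N ≠ ⊥ ∧ Group.IsSolvable N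
  · obtain ⟨N, hNn, hNb, hNs⟩ := hsolN
    haveI := hNn
    haveI := hNs
    haveI := hquot N hNn hNb
    exact Group.isSolvable_of_ker_le_range N.subtype (QuotientGroup.mk' N)
      (by rw [QuotientGroup.ker_mk', Subgroup.range_subtype])
  push Not at hsolN
  by_cases hcop : (Nat.card A).Coprime (Nat.card B)
  · refine solvable_of_coprime _ G rfl A B hA hB hcop ?_
    have h1 := Cfsg.Lib.SolvStruct.card_setMul_mul_card_inf A B
    rw [inf_eq_bot_of_coprime hcop, card_bot, mul_one] at h1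
    rw [← h1]
    have e : (A : Set G) * (B : Set G) = Set.univ := Set.eq_univ_of_forall fun g => by
      obtain ⟨a, ha, b, hb, rfl⟩ := hAB g
      exact ⟨a, ha, b, hb, rfl⟩
    rw [e]
    exact Nat.card_congr (Equiv.Set.univ G)
  -- a prime dividing both orders
  obtain ⟨p, hp, hpA, hpB⟩ : ∃ p : ℕ, p.Prime ∧ p ∣ Nat.card A ∧ p ∣ Nat.card B := by
    by_contra hc
    push Not at hc
    exact hcop (Cfsg.Lib.Coprime.coprime_of_forall_prime hc)
  exfalso
  haveI := Fact.mk hp
  obtain ⟨P, Q, R, hR⟩ := Cfsg.Lib.SolvStruct.exists_sylow_product A B hAB p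
  set X := (P : Subgroup A).map A.subtype with hX
  set Y := (Q : Subgroup B).map B.subtype with hY
  have hnorm : ∀ (C : Subgroup G) (T : Sylow p C), Group.IsNilpotent C → ∀ c ∈ C,
      cj c ((T : Subgroup C).map C.subtype) = (T : Subgroup C).map C.subtype := by
    intro C T hC c hc
    haveI := hC
    have hTn : (T : Subgroup C).Normal := by
      have h1 := (Group.isNilpotent_of_finite_tfae (G := C)).out 0 3
      exact h1.1 inferInstance p ‹_› T
    refine cj_of_mem (mem_normalizer_fintype ?_)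
    rintro _ ⟨y, hy, rfl⟩
    exact ⟨_, hTn.conj_mem y hy ⟨c, hc⟩, rfl⟩
  have hperm : ∀ g : G, Perm X (cj g Y) := by
    intro g x hx w hw
    obtain ⟨a, ha, b, hb, rfl⟩ := hAB g
    rw [← cj_cj, hnorm B Q hB b hb] at hw ⊢
    -- conjugate the Sylow product by `a`
    have hx' : a⁻¹ * x * a ∈ X := by
      have := hnorm A P hA a⁻¹ (A.inv_mem ha)
      exact this.le (mem_cj.2 (by rw [show a⁻¹⁻¹ * (a⁻¹ * x * a) * a⁻¹ = x by group]; exact hx))
    have hw' : a⁻¹ * w * a ∈ Y := mem_cj.1 hw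
    have hmem : (a⁻¹ * x * a) * (a⁻¹ * w * a) ∈ (R : Subgroup G) :=
      hR.ge ⟨_, hx', _, hw', rfl⟩
    obtain ⟨x1, hx1, y1, hy1, e⟩ := hR.le ((R : Subgroup G).inv_mem hmem)
    refine ⟨a * y1⁻¹ * a⁻¹, conj_mem_cj a (Y.inv_mem hy1), a * x1⁻¹ * a⁻¹, ?_, ?_⟩
    · have := hnorm A P hA a ha
      exact this.le (conj_mem_cj a (X.inv_mem hx1))
    · have e' : (x1 * y1)⁻¹ = (a⁻¹ * x * a) * (a⁻¹ * w * a) := by
        rw [show x1 * y1 = _ from e, inv_inv]
      calc x * w = a * ((a⁻¹ * x * a) * (a⁻¹ * w * a)) * a⁻¹ := by group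
        _ = a * (x1 * y1)⁻¹ * a⁻¹ := by rw [e']
        _ = _ := by group
  obtain ⟨X', hXX', hX'p, hnor⟩ := exists_normalized (P.2.map A.subtype) (Q.2.map B.subtype) hperm
  set M := normalClosure (Y : Set G) with hM
  have hYne : Y ≠ ⊥ := fun e =>
    Q.ne_bot_of_dvd_card hpB ((map_eq_bot_iff_of_injective _ B.subtype_injective).1 e)
  have hMne : M ≠ ⊥ := fun e => hYne (le_bot_iff.1 (e ▸ le_normalClosure))
  -- `M` has no nontrivial normal `p`-subgroup
  have hcore : pc p M = ⊥ := by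
    by_contra hne
    refine hsolN (pc p M) ?_ hne ?_
    · haveI : (Cfsg.pCore p M).Characteristic := by
        rw [characteristic_iff_map_le]
        intro e
        haveI : ((Cfsg.pCore p M).map e.toMonoidHom).Normal :=
          Normal.map inferInstance _ e.surjective
        exact Cfsg.Lib.Components.le_pCore ((Cfsg.Lib.Components.isPGroup_pCore (G := M) p).map _)
      exact ConjAct.normal_of_characteristic_of_normal
    · haveI : Group.IsNilpotent ↥(pc p M) := (isPGroup_pc p M).isNilpotent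
      infer_instance
  have hdisj : X' ⊓ M = ⊥ := by
    refine le_bot_iff.1 (hcore ▸ ?_)
    haveI : ((X' ⊓ M).subgroupOf M).Normal := by
      refine ⟨fun x hx m => ⟨(mem_normalizer_iff.1 (hnor m.2) x).1 hx.1, (m * x * m⁻¹).2⟩⟩
    intro x hx
    exact ⟨⟨x, hx.2⟩, Cfsg.Lib.Components.le_pCore (N := (X' ⊓ M).subgroupOf M)
      ((hX'p.to_le inf_le_left).comap_subtype) hx, rfl⟩
  haveI : M.Normal := normalClosure_normal
  set C := centralizer (M : Set G) with hC
  have hXC : X' ≤ C := by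
    intro x hx
    refine mem_centralizer_iff.2 fun m hm => ?_
    have h1 : m * x * m⁻¹ * x⁻¹ ∈ X' ⊓ M := by
      refine ⟨X'.mul_mem ((mem_normalizer_iff.1 (hnor hm) x).1 hx) (X'.inv_mem hx), ?_⟩
      rw [show m * x * m⁻¹ * x⁻¹ = m * (x * m⁻¹ * x⁻¹) by group]
      exact M.mul_mem hm ((inferInstance : M.Normal).conj_mem _ (M.inv_mem hm) x)
    rw [hdisj, mem_bot, mul_inv_eq_one, mul_inv_eq_iff_eq_mul] at h1
    exact h1
  haveI : C.Normal := Subgroup.normal_centralizer
  have hCne : C ≠ ⊥ := fun e => P.ne_bot_of_dvd_card hpA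
    ((map_eq_bot_iff_of_injective _ A.subtype_injective).1 (le_bot_iff.1 (e ▸ hXX'.trans hXC)))
  have hMC : M ⊓ C = ⊥ := by
    by_contra hne
    refine hsolN (M ⊓ C) inferInstance hne (Group.isSolvable_of_comm fun u v => Subtype.ext ?_)
    exact mem_centralizer_iff.1 v.2.2 u u.2.1
  haveI := hquot M inferInstance hMne
  haveI := hquot C inferInstance hCne
  have hinj : Function.Injective ((QuotientGroup.mk' M).prod (QuotientGroup.mk' C)) := by
    rw [← MonoidHom.ker_eq_bot_iff, ← le_bot_iff, ← hMC]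
    intro x hx
    rw [MonoidHom.mem_ker, MonoidHom.prod_apply, Prod.mk_eq_one] at hx
    exact ⟨(QuotientGroup.eq_one_iff x).1 hx.1, (QuotientGroup.eq_one_iff x).1 hx.2⟩
  have hsolG : Group.IsSolvable G := Group.isSolvable_of_isSolvable_injective hinj
  haveI := hsolG
  exact hsolN M inferInstance hMne inferInstance

end Cfsg.Lib.SolvStruct.KW
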