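/-
Consequences of the theorem of Kegel and Wielandt.
-/
import Cfsg.Agent.SolvStruct.KegelWielandt.General

set_option autoImplicit false
set_option linter.style.haveILetI false
set_option linter.unusedSectionVars false

namespace Cfsg.Lib.SolvStruct.KW

open Subgroup
open scoped Pointwise

universe u

/-- Sylow subgroups of coprime nilpotent factors permute. -/
theorem sylow_product {G : Type u} [Group G] [Finite G] (A B : Subgroup G) (hA : Group.IsNilpotent A)
    (hB : Group.IsNilpotent B) (hcop : (Nat.card A).Coprime (Nat.card B))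
    (hAB : ∀ g : G, ∃ a ∈ A, ∃ b ∈ B, g = a * b) :
    Group.IsSolvable G ∧ ∀ (p q : ℕ) [Fact p.Prime] [Fact q.Prime] (P : Sylow p A) (Q : Sylow q B),
      ∃ S : Subgroup G, (S : Set G) = (((P : Subgroup A).map A.subtype : Subgroup G) : Set G) *
        (((Q : Subgroup B).map B.subtype : Subgroup G) : Set G) := by
  have hsol := solvable_of_nilpotent_factors _ G rfl A B hA hB hAB
  refine ⟨hsol, ?_⟩
  intro p q _ _ P Q
  haveI := hsol
  have hcard : Nat.card A * Nat.card B = Nat.card G := by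
    have h1 := Cfsg.Lib.SolvStruct.card_setMul_mul_card_inf A B
    rw [inf_eq_bot_of_coprime hcop, card_bot, mul_one] at h1
    rw [← h1]
    have e : (A : Set G) * (B : Set G) = Set.univ := Set.eq_univ_of_forall fun g => by
      obtain ⟨a, ha, b, hb, rfl⟩ := hAB g
      exact ⟨a, ha, b, hb, rfl⟩
    rw [e]
    exact Nat.card_congr (Equiv.Set.univ G)
  have key : ∀ (C D : Subgroup G) (r : ℕ) [Fact r.Prime] (T : Sylow r C), Group.IsNilpotent C →
      (Nat.card C).Coprime (Nat.card D) → Nat.card C * Nat.card D = Nat.card G →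
      (((T : Subgroup C).map C.subtype).subgroupOf C).Normal ∧
        (Nat.card ↥((T : Subgroup C).map C.subtype)).Coprime ((T : Subgroup C).map C.subtype).index := by
    intro C D r hr T hC hco hc
    haveI := hC
    constructor
    · rw [subgroupOf, comap_map_eq_self_of_injective C.subtype_injective]
      have h1 := (Group.isNilpotent_of_finite_tfae (G := C)).out 0 3
      exact h1.1 inferInstance r ‹_› T
    · have hi : C.index = Nat.card D := Nat.eq_of_mul_eq_mul_left (Nat.card_pos (α := C))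
        (by rw [card_mul_index, hc])
      rw [card_map_of_injective C.subtype_injective, index_map_subtype, hi]
      exact T.card_coprime_index.mul_right
        (hco.coprime_dvd_left (card_subgroup_dvd_card (T : Subgroup C)))
  obtain ⟨hPn, hPc⟩ := key A B p P hA hcop hcard
  obtain ⟨hQn, hQc⟩ := key B A q Q hB hcop.symm (by rw [mul_comm]; exact hcard)
  have h := Cfsg.Lib.SolvStruct.hall_product A B _ _ hAB (map_subtype_le (P : Subgroup A)) hPn
    (map_subtype_le (Q : Subgroup B)) hQn hPc hQc 1 1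
  simpa using h

lemma exists_central_of_prime {H : Type u} [Group H] [Finite H] [Group.IsNilpotent H] {r : ℕ}
    (hr : r.Prime) (hd : r ∣ Nat.card H) : ∃ z ∈ center H, orderOf z = r := by
  haveI := Fact.mk hr
  obtain ⟨P⟩ : Nonempty (Sylow r H) := inferInstance
  haveI : (P : Subgroup H).Normal := by
    have h1 := (Group.isNilpotent_of_finite_tfae (G := H)).out 0 3
    exact h1.1 inferInstance r ‹_› P
  obtain ⟨w, hw⟩ := ne_bot_iff_exists_ne_one.1
    (Cfsg.Lib.Coprime.inf_center_ne_bot (P : Subgroup H) (P.ne_bot_of_dvd_card hd))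
  obtain ⟨k, hk⟩ := IsPGroup.iff_orderOf.1 P.2 ⟨w.1, w.2.1⟩
  rw [Subgroup.orderOf_mk] at hk
  rcases k with _ | k
  · exact absurd (Subtype.ext (orderOf_eq_one_iff.1 (by simpa using hk))) hw
  refine ⟨(w : H) ^ (r ^ k), (center H).pow_mem w.2.2 _, ?_⟩
  rw [orderOf_pow_of_dvd (pow_pos hr.pos k).ne' (hk ▸ pow_dvd_pow r k.le_succ), hk, pow_succ,
    Nat.mul_div_cancel_left _ (pow_pos hr.pos k)]

/-- A proper normal subgroup contains one of two nilpotent factors. -/
theorem exists_normal_ge_factor : ∀ (n : ℕ) (G : Type u) [Group G] [Finite G], Nat.card G = n →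
    ∀ A B : Subgroup G, Group.IsNilpotent A → Group.IsNilpotent B →
      (∀ g : G, ∃ a ∈ A, ∃ b ∈ B, g = a * b) → (A ≠ ⊤ ∨ B ≠ ⊤) →
        ∃ N : Subgroup G, N.Normal ∧ N ≠ ⊤ ∧ (A ≤ N ∨ B ≤ N) := by
  intro n
  induction n using Nat.strong_induction_on with
  | _ n ih =>
  intro G _ _ hn A B hA hB hAB hprop
  subst hn
  by_cases hGnil : Group.IsNilpotent G
  · haveI := hGnil
    rcases hprop with h | h
    · obtain ⟨M, hM, hle⟩ := (eq_top_or_exists_le_coatom A).resolve_left h
      exact ⟨M, Subgroup.NormalizerCondition.normal_of_coatom M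
        Group.normalizerCondition_of_isNilpotent hM, hM.1, Or.inl hle⟩
    · obtain ⟨M, hM, hle⟩ := (eq_top_or_exists_le_coatom B).resolve_left h
      exact ⟨M, Subgroup.NormalizerCondition.normal_of_coatom M
        Group.normalizerCondition_of_isNilpotent hM, hM.1, Or.inr hle⟩
  by_cases hgood : ∃ N : Subgroup G, N.Normal ∧ N ≠ ⊥ ∧ (A ⊔ N ≠ ⊤ ∨ B ⊔ N ≠ ⊤)
  · obtain ⟨N, hNn, hNb, hNt⟩ := hgood
    haveI := hNn
    have hne : ∀ C : Subgroup G, C ⊔ N ≠ ⊤ → C.map (QuotientGroup.mk' N) ≠ ⊤ := fun C h e => h (by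
      have h2 := congrArg (Subgroup.comap (QuotientGroup.mk' N)) e
      rwa [comap_map_eq, QuotientGroup.ker_mk', comap_top] at h2)
    obtain ⟨K, hKn, hKt, hK⟩ := ih _ (Cfsg.Lib.Coprime.card_quotient_lt hNb) (G ⧸ N) rfl _ _
      (nilpotent_map (QuotientGroup.mk' N) hA) (nilpotent_map (QuotientGroup.mk' N) hB)
      (factor_map _ (QuotientGroup.mk'_surjective N) hAB) (hNt.imp (hne A) (hne B))
    refine ⟨K.comap (QuotientGroup.mk' N), hKn.comap _, fun e => hKt ?_,
      hK.imp map_le_iff_le_comap.1 map_le_iff_le_comap.1⟩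
    rw [← map_comap_eq_self_of_surjective (QuotientGroup.mk'_surjective N) K, e,
      map_top_of_surjective _ (QuotientGroup.mk'_surjective N)]
  push Not at hgood
  have hsol := solvable_of_nilpotent_factors _ G rfl A B hA hB hAB
  haveI := hsol
  haveI : Nontrivial G := by
    by_contra h
    rw [not_nontrivial_iff_subsingleton] at h
    exact hGnil inferInstance
  have hGne : (⊤ : Subgroup G) ≠ ⊥ := top_ne_bot
  obtain ⟨N, -, hNn, hNb, hmin⟩ := Cfsg.Lib.Coprime.exists_minimal_normal
    (inferInstance : (⊤ : Subgroup G).Normal) hGne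
  haveI := hNn
  obtain ⟨hNc, p, hp, hNp, -⟩ := Cfsg.Lib.Coprime.minimal_normal_solvable
    (inferInstance : Group.IsSolvable N) hNb hmin
  haveI := Fact.mk hp
  obtain ⟨hAN, hBN⟩ := hgood N hNn hNb
  have hAt : A ≠ ⊤ := fun e => hGnil (by
    haveI : Group.IsNilpotent (⊤ : Subgroup G) := e ▸ hA
    exact Group.nilpotent_of_mulEquiv Subgroup.topEquiv)
  -- a factor meets `N` trivially
  have hinf : ∀ C : Subgroup G, C ≠ ⊤ → C ⊔ N = ⊤ → C ⊓ N = ⊥ := by
    intro C hCt hCN
    have hn : (C ⊓ N).Normal := by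
      rw [← normalizer_eq_top_iff, ← top_le_iff, ← hCN]
      refine sup_le (fun c hc => mem_normalizer_fintype fun x hx =>
        ⟨C.mul_mem (C.mul_mem hc hx.1) (C.inv_mem hc), hNn.conj_mem x hx.2 c⟩) ?_
      intro v hv
      refine mem_normalizer_fintype fun x hx => ?_
      have : v * x = x * v := congrArg Subtype.val (hNc.is_comm.comm (⟨v, hv⟩ : N) ⟨x, hx.2⟩)
      show v * x * v⁻¹ ∈ C ⊓ N
      rw [this, mul_inv_cancel_right]
      exact hx
    rcases hmin _ hn inf_le_right with h | h
    · exact h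
    · exact absurd ((sup_eq_left.2 (h ▸ inf_le_left)).symm.trans hCN) hCt
  have hBt : B ≠ ⊤ := fun e => hGnil (by
    haveI : Group.IsNilpotent (⊤ : Subgroup G) := e ▸ hB
    exact Group.nilpotent_of_mulEquiv Subgroup.topEquiv)
  have hAi := hinf A hAt hAN
  have hBi := hinf B hBt hBN
  -- a prime of `|A|` other than `p`
  obtain ⟨r, hr, hrA, hrp⟩ : ∃ r : ℕ, r.Prime ∧ r ∣ Nat.card A ∧ r ≠ p := by
    by_contra hc
    push Not at hc
    apply hGnil
    have hAp : IsPGroup p A := IsPGroup.of_card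
      (Nat.eq_prime_pow_of_unique_prime_dvd (Nat.card_pos (α := A)).ne' (fun {d} hd hdA => hc d hd hdA))
    have h := hAp.to_sup_of_normal_right hNp
    rw [hAN] at h
    exact (h.of_equiv Subgroup.topEquiv).isNilpotent
  haveI := hA
  haveI := hB
  obtain ⟨z, hzc, hzo⟩ := exists_central_of_prime hr hrA
  have hzne : (z : G) ≠ 1 := fun e => hr.ne_one (by rw [← hzo, ← Subgroup.orderOf_coe, e, orderOf_one])
  have hzA : ∀ a ∈ A, a * (z : G) = z * a := fun a ha =>
    congrArg Subtype.val (mem_center_iff.1 hzc ⟨a, ha⟩)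
  -- `z` centralizes no nontrivial element of `N`
  have hCz : ∀ v ∈ N, (z : G) * v = v * z → v = 1 := by
    intro v hv hvz
    set V := N ⊓ centralizer ({(z : G)} : Set G) with hV
    have hn : V.Normal := by
      rw [← normalizer_eq_top_iff, ← top_le_iff, ← hAN]
      refine sup_le (fun a ha => mem_normalizer_fintype fun x hx => ⟨hNn.conj_mem x hx.1 a, ?_⟩) ?_
      · refine mem_centralizer_singleton_iff.2 ?_
        have hx2 : x * z = z * x := mem_centralizer_singleton_iff.1 hx.2
        have hza := hzA a⁻¹ (A.inv_mem ha)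
        calc a * x * a⁻¹ * z = a * x * (a⁻¹ * z) := by group
          _ = a * (x * z) * a⁻¹ := by rw [hza]; group
          _ = a * (z * x) * a⁻¹ := by rw [hx2]
          _ = (a * z) * x * a⁻¹ := by group
          _ = (z * a) * x * a⁻¹ := by rw [hzA a ha]
          _ = _ := by group
      · intro u hu
        refine mem_normalizer_fintype fun x hx => ?_
        have : u * x = x * u := congrArg Subtype.val (hNc.is_comm.comm (⟨u, hu⟩ : N) ⟨x, hx.1⟩)
        show u * x * u⁻¹ ∈ V
        rw [this, mul_inv_cancel_right]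
        exact hx
    rcases hmin _ hn inf_le_left with h | h
    · exact mem_bot.1 (h ▸ (⟨hv, mem_centralizer_singleton_iff.2 hvz.symm⟩ : v ∈ V))
    · exfalso
      -- then `z` is central in `G`
      have hzcen : (z : G) ∈ center G := by
        rw [mem_center_iff]
        intro g
        have hle : (⊤ : Subgroup G) ≤ centralizer ({(z : G)} : Set G) := by
          rw [← hAN]
          exact sup_le (fun a ha => mem_centralizer_singleton_iff.2 (hzA a ha)) (h ▸ inf_le_right)
        exact mem_centralizer_singleton_iff.1 (hle (mem_top g))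
      haveI : (zpowers (z : G)).Normal :=
        ⟨fun x hx g => by
          rw [mem_center_iff.1 (zpowers_le.2 hzcen hx) g, mul_inv_cancel_right]; exact hx⟩
      have := (hgood (zpowers (z : G)) inferInstance (fun e => hzne (zpowers_eq_bot.1 e))).1
      rw [sup_eq_left.2 (zpowers_le.2 z.2)] at this
      exact hAt this
  -- the element of `B` above `z`
  have hsplit : ∀ g : G, ∃ b ∈ B, ∃ v ∈ N, g = b * v := fun g => by
    obtain ⟨b, hb, v, hv, e⟩ := mem_sup_of_normal_right.1 (hBN ▸ mem_top g : g ∈ B ⊔ N)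
    exact ⟨b, hb, v, hv, e.symm⟩
  obtain ⟨y, hyB, m, hm, hym⟩ := hsplit z
  -- every element of `N` is a commutator with `z`
  have hsurj : Function.Surjective
      (fun v : N => (⟨(z : G)⁻¹ * v * z * (v : G)⁻¹,
        N.mul_mem (by simpa using hNn.conj_mem v v.2 (z : G)⁻¹) (N.inv_mem v.2)⟩ : N)) := by
    refine Finite.surjective_of_injective fun u v e => ?_
    have e' : (z : G)⁻¹ * u * z * (u : G)⁻¹ = (z : G)⁻¹ * v * z * (v : G)⁻¹ := congrArg Subtype.val e
    have huv : ∀ a b : G, a ∈ N → b ∈ N → a * b = b * a := fun a b ha hb =>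
      congrArg Subtype.val (hNc.is_comm.comm (⟨a, ha⟩ : N) ⟨b, hb⟩)
    have h1 : (u : G) * z * (u : G)⁻¹ = v * z * (v : G)⁻¹ := by
      calc (u : G) * z * (u : G)⁻¹ = z * ((z : G)⁻¹ * u * z * (u : G)⁻¹) := by group
        _ = z * ((z : G)⁻¹ * v * z * (v : G)⁻¹) := by rw [e']
        _ = _ := by group
    have h2 : (z : G) * ((v : G)⁻¹ * u) = ((v : G)⁻¹ * u) * z := by
      calc (z : G) * ((v : G)⁻¹ * u) = (v : G)⁻¹ * (v * z * (v : G)⁻¹) * u := by group
        _ = (v : G)⁻¹ * ((u : G) * z * (u : G)⁻¹) * u := by rw [h1]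
        _ = _ := by group
    have h3 := hCz _ (N.mul_mem (N.inv_mem v.2) u.2) h2
    rw [inv_mul_eq_one] at h3
    exact Subtype.ext h3.symm
  obtain ⟨v, hv⟩ := hsurj ⟨m⁻¹, N.inv_mem hm⟩
  have hv' : (z : G)⁻¹ * v * z * (v : G)⁻¹ = m⁻¹ := congrArg Subtype.val hv
  have hyz : y = (v : G) * z * (v : G)⁻¹ := by
    have : y = (z : G) * m⁻¹ := by rw [hym, mul_inv_cancel_right]
    rw [this, ← hv']
    group
  -- `y` is central in `B`
  have hy : ∀ b ∈ B, b * y = y * b := by
    intro b hb
    obtain ⟨a, ha, w, hw, e⟩ := mem_sup_of_normal_right.1 (hAN ▸ mem_top b : b ∈ A ⊔ N)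
    have h1 : b * y * b⁻¹ * y⁻¹ ∈ B ⊓ N := by
      refine ⟨B.mul_mem (B.mul_mem (B.mul_mem hb hyB) (B.inv_mem hb)) (B.inv_mem hyB), ?_⟩
      show b * y * b⁻¹ * y⁻¹ ∈ N
      rw [← QuotientGroup.eq_one_iff]
      have hy' : QuotientGroup.mk' N y = QuotientGroup.mk' N (z : G) := by
        rw [hym, map_mul, show QuotientGroup.mk' N m = 1 from (QuotientGroup.eq_one_iff m).2 hm,
          mul_one]
      have hb' : QuotientGroup.mk' N b = QuotientGroup.mk' N a := by
        rw [← e, map_mul, show QuotientGroup.mk' N w = 1 from (QuotientGroup.eq_one_iff w).2 hw,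
          mul_one]
      show QuotientGroup.mk' N (b * y * b⁻¹ * y⁻¹) = 1
      simp only [map_mul, map_inv, hy', hb']
      rw [← map_mul, hzA a ha, map_mul]
      group
    rw [hBi, mem_bot, mul_inv_eq_one, mul_inv_eq_iff_eq_mul] at h1
    exact h1
  -- hence `B` is a conjugate of `A`
  have hBA : B ≤ cj (v : G) A := by
    intro b hb
    rw [mem_cj]
    obtain ⟨a, ha, w, hw, e⟩ :=
      mem_sup_of_normal_right.1 (hAN ▸ mem_top ((v : G)⁻¹ * b * v) : (v : G)⁻¹ * b * v ∈ A ⊔ N)
    have hbz : ((v : G)⁻¹ * b * v) * z = z * ((v : G)⁻¹ * b * v) := by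
      have h2 := hy b hb
      rw [hyz] at h2
      calc ((v : G)⁻¹ * b * v) * z = (v : G)⁻¹ * (b * ((v : G) * z * (v : G)⁻¹)) * v := by group
        _ = (v : G)⁻¹ * ((v : G) * z * (v : G)⁻¹ * b) * v := by rw [h2]
        _ = _ := by group
    rw [← e] at hbz
    have hw1 : w = 1 := by
      refine hCz w hw ?_
      have : a * ((z : G) * w) = a * (w * z) := by
        calc a * ((z : G) * w) = (a * z) * w := by group
          _ = (z * a) * w := by rw [hzA a ha]
          _ = (z : G) * (a * w) := by group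
          _ = a * w * z := hbz.symm
          _ = _ := by group
      exact mul_left_cancel this
    rw [← e, hw1, mul_one]
    exact ha
  exfalso
  -- `G` would be the product of two conjugate subgroups
  obtain ⟨a, ha, b, hb, e⟩ := hAB (v : G)⁻¹
  have hb' := mem_cj.1 (hBA hb)
  have hvA : (v : G) ∈ A := by
    have hbe : b = a⁻¹ * (v : G)⁻¹ := by rw [e]; group
    have h1 : (v : G)⁻¹ * b * v = (v : G)⁻¹ * a⁻¹ := by rw [hbe]; group
    rw [h1] at hb'
    have h2 := A.mul_mem hb' ha
    rw [inv_mul_cancel_right] at h2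
    simpa using A.inv_mem h2
  have hB2 : B ≤ A := hBA.trans (by rw [cj_of_mem (le_normalizer hvA)])
  exact hAt (eq_top_iff.2 fun g _ => by
    obtain ⟨a', ha', b', hb'', rfl⟩ := hAB g
    exact A.mul_mem ha' (hB2 hb''))

end Cfsg.Lib.SolvStruct.KW
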